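import Cfsg.Agent.Lib.Star.Integral
import Cfsg.Agent.Lib.NilBlock.MIndep

/-!
# The inner products of the twist

* `Twist.classInner_eq`: the inner products with the characters through the contributions;
* `Twist.isIntegral_classInner`, `Twist.norm_one`, `Twist.classInner_conjCommute`, `Twist.exists_irr`:
  the twist of a character of the block is a character of the block of the same degree.
-/

set_option autoImplicit false

noncomputable section

namespace CfsgLib.Star

open Cfsg CfsgLib.Blocks CfsgLib.BlockArith CfsgLib.Char CfsgLib.BrauerPairs CfsgLib.NilBlock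
open scoped ComplexConjugate Classical

universe u

variable {G : Type u} [Group G] [Fintype G] {M : Ideal AlgInt} [M.IsMaximal] {p : ℕ} [hp : Fact p.Prime]
  {B : Set (IrrCharacter G)} {P : Subgroup G} {e : Set (IrrCharacter (Cen P))} {l : P →* ℂˣ}

omit [M.IsMaximal] hp in
/-- Representatives of the classes of `p`-elements. -/
theorem exists_reps : ∃ X : Finset G, (∀ x ∈ X, ∃ k : ℕ, orderOf x = p ^ k) ∧
    ∀ g : G, (∃ k : ℕ, orderOf g = p ^ k) → ∃! x, x ∈ X ∧ IsConj g x := by
  refine ⟨(Finset.univ.filter fun g : G => ∃ k : ℕ, orderOf g = p ^ k).image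
    fun g => (ConjClasses.mk g).out, ?_, ?_⟩
  · intro x hx
    obtain ⟨g, hg, rfl⟩ := Finset.mem_image.mp hx
    obtain ⟨k, hk⟩ := (Finset.mem_filter.mp hg).2
    obtain ⟨w, hw⟩ := isConj_iff.mp (ConjClasses.mk_eq_mk_iff_isConj.mp (Quotient.out_eq (ConjClasses.mk g)))
    refine ⟨k, ?_⟩
    rw [(SemiconjBy.conj_mk w (ConjClasses.mk g).out).orderOf_eq]
    exact (congrArg orderOf hw).trans hk
  · intro g hg
    refine ⟨(ConjClasses.mk g).out, ⟨Finset.mem_image_of_mem _ (Finset.mem_filter.mpr ⟨Finset.mem_univ _, hg⟩),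
      (ConjClasses.mk_eq_mk_iff_isConj.mp (Quotient.out_eq (ConjClasses.mk g))).symm⟩, ?_⟩
    rintro y ⟨hy, hgy⟩
    obtain ⟨g', -, rfl⟩ := Finset.mem_image.mp hy
    have h : ConjClasses.mk g = ConjClasses.mk g' :=
      (ConjClasses.mk_eq_mk_iff_isConj.mpr hgy).trans (Quotient.out_eq (ConjClasses.mk g'))
    rw [h]

omit [M.IsMaximal] hp in
theorem isIntegral_lin (v : P) : IsIntegral ℤ (l v : ℂ) :=
  char_isIntegral (isCharacter_linFun l).1 v

omit [M.IsMaximal] hp in
theorem lin_mul_conj (v : P) : (l v : ℂ) * conj (l v : ℂ) = 1 := by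
  have h : conj (l v : ℂ) = (l v⁻¹ : ℂ) := (char_inv (isCharacter_linFun l).1 v).symm
  rw [h, map_inv, ← Units.val_mul, mul_inv_cancel, Units.val_one]

variable (p M B P e l) in
/-- The weight of a local block. -/
def wt (x : G) (b : Set (IrrCharacter (Cen (Subgroup.zpowers x)))) : ℂ :=
  if IsBrauerPairOf p M B (Subgroup.zpowers x) b then lamVal M p P e l x ⟨_, b⟩ else 0

variable (p M B) in
/-- Whether the block belongs to `B`. -/
def ind (x : G) (b : Set (IrrCharacter (Cen (Subgroup.zpowers x)))) : ℂ :=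
  if IsBrauerPairOf p M B (Subgroup.zpowers x) b then 1 else 0

theorem Twist.wt_integral (T : Twist M p B P e l) (x : G)
    (b : Set (IrrCharacter (Cen (Subgroup.zpowers x)))) : IsIntegral ℤ (wt M p B P e l x b) := by
  rw [wt]
  split_ifs with h
  · obtain ⟨v, hv⟩ := T.exists_lamVal (a := ⟨_, b⟩) (mem_pairsAt.mpr ⟨rfl, h⟩)
    rw [hv]; exact isIntegral_lin v
  · exact isIntegral_zero

theorem Twist.wt_conjCommute (T : Twist M p B P e l) (σ : ℂ ≃+* ℂ) (x : G)
    (b : Set (IrrCharacter (Cen (Subgroup.zpowers x)))) : wt M p B P e l x b ∈ conjCommute σ := by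
  rw [wt]
  split_ifs with h
  · obtain ⟨v, hv⟩ := T.exists_lamVal (a := ⟨_, b⟩) (mem_pairsAt.mpr ⟨rfl, h⟩)
    rw [hv]; exact char_mem_conjCommute σ (isCharacter_linFun l).1 v
  · exact Subfield.zero_mem _

theorem Twist.wt_mul_conj (T : Twist M p B P e l) (x : G)
    (b : Set (IrrCharacter (Cen (Subgroup.zpowers x)))) :
    wt M p B P e l x b * conj (wt M p B P e l x b) = ind M p B x b := by
  rw [wt, ind]
  split_ifs with h
  · obtain ⟨v, hv⟩ := T.exists_lamVal (a := ⟨_, b⟩) (mem_pairsAt.mpr ⟨rfl, h⟩)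
    rw [hv]; exact lin_mul_conj v
  · simp

variable {x : G} [Fintype {b : Set (IrrCharacter (Cen (Subgroup.zpowers x))) // IsPBlock M b}]

theorem star_section (χ : IrrCharacter G) (hx : ∃ k : ℕ, orderOf x = p ^ k)
    {c : Cen (Subgroup.zpowers x)} (hc : ¬ p ∣ orderOf c) :
    star M p B P e l χ (x * (c : G)) =
      ∑ b : {b : Set (IrrCharacter (Cen (Subgroup.zpowers x))) // IsPBlock M b},
        wt M p B P e l x b.1 * secH x (Cen (Subgroup.zpowers x)) b.1 χ c := by
  rw [star_mul hx (by rwa [Subgroup.orderOf_coe])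
    (Subgroup.mem_centralizer_iff.mp c.2 x (Subgroup.mem_zpowers x)), starAt]
  simp only [wt, ite_mul, zero_mul, ← Finset.sum_filter]
  symm
  refine Finset.sum_bij (fun b _ => (⟨Subgroup.zpowers x, b.1⟩ : BrauerPairIdx G)) (fun b hb => ?_)
    (fun b _ b' _ h => Subtype.ext (eq_of_heq (Sigma.mk.injEq .. ▸ h).2)) ?_ ?_
  · exact mem_pairsAt.mpr ⟨rfl, (Finset.mem_filter.mp hb).2⟩
  · rintro ⟨Q, f⟩ hf
    obtain ⟨hQ, hf'⟩ := mem_pairsAt.mp hf
    obtain rfl : Q = Subgroup.zpowers x := hQ
    exact ⟨⟨f, hf'.1.2⟩, Finset.mem_filter.mpr ⟨Finset.mem_univ _, hf'⟩, rfl⟩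
  · intro b' _
    rw [secG, dif_pos (show (c : G) ∈ Cen (Subgroup.zpowers x) from c.2)]

theorem irr_section (η : IrrCharacter G) (c : Cen (Subgroup.zpowers x)) :
    (η : G → ℂ) (x * (c : G)) =
      ∑ b : {b : Set (IrrCharacter (Cen (Subgroup.zpowers x))) // IsPBlock M b},
        1 * secH x (Cen (Subgroup.zpowers x)) b.1 η c := by
  simp only [one_mul, secH]
  refine (sum_blockPart (f := fun c : Cen (Subgroup.zpowers x) => (η : G → ℂ) (x * (c : G))) ?_ c).symm
  intro a d
  show (η : G → ℂ) (x * ((d : G) * a * (d : G)⁻¹)) = (η : G → ℂ) (x * a)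
  rw [← isClassFunction_of_isIrr η.2 (x * a) (d : G)]
  congr 1
  have hd := (mem_cen_zpowers.mp d.2).eq
  simp only [← mul_assoc, hd]

theorem mem_section (hM : IsPModular p M) (hB : IsPBlock M B) {χ : IrrCharacter G} (hχ : χ ∈ B)
    (hx : ∃ k : ℕ, orderOf x = p ^ k) {c : Cen (Subgroup.zpowers x)} (hc : ¬ p ∣ orderOf c) :
    (χ : G → ℂ) (x * (c : G)) = ∑ b : {b : Set (IrrCharacter (Cen (Subgroup.zpowers x))) // IsPBlock M b},
      ind M p B x b.1 * secH x (Cen (Subgroup.zpowers x)) b.1 χ c := by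
  have := Fintype.ofFinite (Cen (Subgroup.zpowers x))
  rw [← sum_inducingH (cen_zpowers x) hM hx hB χ hχ hc]
  refine Finset.sum_congr rfl fun b _ => ?_
  rw [ind, ite_mul, one_mul, zero_mul]
  exact if_congr (brauerPairOf_iff_induced hM (isPGroup_zpowers hx) b.2 hB).symm rfl rfl

/-- The regular product of two combinations of local parts. -/
theorem regSum_combination (hM : IsPModular p M) (χ η : IrrCharacter G)
    (w w' : {b : Set (IrrCharacter (Cen (Subgroup.zpowers x))) // IsPBlock M b} → ℂ)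
    {f f' : Cen (Subgroup.zpowers x) → ℂ}
    (hf : ∀ c : Cen (Subgroup.zpowers x), ¬ p ∣ orderOf c →
      f c = ∑ b, w b * secH x (Cen (Subgroup.zpowers x)) b.1 χ c)
    (hf' : ∀ c : Cen (Subgroup.zpowers x), ¬ p ∣ orderOf c →
      f' c = ∑ b, w' b * secH x (Cen (Subgroup.zpowers x)) b.1 η c) :
    regSum p f f' = ∑ b, w b * conj (w' b) *
      regSum p (secH x (Cen (Subgroup.zpowers x)) b.1 χ) (secH x (Cen (Subgroup.zpowers x)) b.1 η) := by
  have h : regSum p f f' = ∑ b, ∑ b', w b * conj (w' b') *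
      regSum p (secH x (Cen (Subgroup.zpowers x)) b.1 χ) (secH x (Cen (Subgroup.zpowers x)) b'.1 η) := by
    simp only [regSum_eq, Finset.mul_sum]
    rw [Finset.sum_congr rfl fun b _ => Finset.sum_comm, Finset.sum_comm]
    refine Finset.sum_congr rfl fun c _ => ?_
    split_ifs with hc
    · simp
    · rw [hf c hc, hf' c hc, map_sum, Finset.sum_mul_sum]
      refine Finset.sum_congr rfl fun b _ => Finset.sum_congr rfl fun b' _ => ?_
      rw [map_mul]; ring
  rw [h]
  refine Finset.sum_congr rfl fun b _ => Finset.sum_eq_single b (fun b' _ hne => ?_)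
    (fun h => absurd (Finset.mem_univ _) h)
  have := Fintype.ofFinite (Cen (Subgroup.zpowers x))
  rw [secH, secH, regSum_blockPart_ne hM b.2 b'.2 (fun h => hne (Subtype.ext h.symm)), mul_zero]

omit [Fintype {b : Set (IrrCharacter (Cen (Subgroup.zpowers x))) // IsPBlock M b}]

/-- An inner product through the sections. -/
theorem classInner_sections {X : Finset G} (hX : ∀ x ∈ X, ∃ k : ℕ, orderOf x = p ^ k)
    (hXrep : ∀ g : G, (∃ k : ℕ, orderOf g = p ^ k) → ∃! x, x ∈ X ∧ IsConj g x) {f f' : G → ℂ}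
    (hf : IsClassFunction G f) (hf' : IsClassFunction G f') :
    classInner f f' = ∑ x ∈ X, (Nat.card (Cen (Subgroup.zpowers x)) : ℂ)⁻¹ *
      regSum p (fun c : Cen (Subgroup.zpowers x) => f (x * (c : G))) fun c => f' (x * (c : G)) := by
  have hcl : IsClassFunction G fun g => f g * conj (f' g) := fun a b => by
    show f _ * conj (f' _) = f _ * conj (f' _)
    rw [hf a b, hf' a b]
  rw [classInner_def, sum_by_sections X hX hXrep hcl, Finset.mul_sum]
  refine Finset.sum_congr rfl fun x _ => ?_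
  rw [← mul_assoc, ← mul_assoc, inv_mul_cancel₀ card_ne_zero', one_mul]
  have h : ∀ H : Subgroup G, H = Subgroup.centralizer ({x} : Set G) →
      (Nat.card (Subgroup.centralizer ({x} : Set G)) : ℂ)⁻¹ *
        ∑ᶠ s : Subgroup.centralizer ({x} : Set G), pRegularPart p
          (fun c : Subgroup.centralizer ({x} : Set G) => f (x * (c : G)) * conj (f' (x * (c : G)))) s =
      (Nat.card H : ℂ)⁻¹ * regSum p (fun c : H => f (x * (c : G))) fun c => f' (x * (c : G)) := by
    rintro H rfl
    have := Fintype.ofFinite (Subgroup.centralizer ({x} : Set G))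
    rw [regSum_eq, finsum_eq_sum_of_fintype]
    exact congrArg _ (Finset.sum_congr rfl fun s _ => pRegularPart_apply ..)
  exact h _ (cen_zpowers x)

omit [M.IsMaximal] in
theorem regSum_eq_ctr {b : Set (IrrCharacter (Cen (Subgroup.zpowers x)))} (χ η : IrrCharacter G) :
    (Nat.card (Cen (Subgroup.zpowers x)) : ℂ)⁻¹ *
      regSum p (secH x (Cen (Subgroup.zpowers x)) b χ) (secH x (Cen (Subgroup.zpowers x)) b η) =
    ctr p x (Cen (Subgroup.zpowers x)) b χ η * ((p ^ blockDefect p b : ℕ) : ℂ)⁻¹ := by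
  have h0 : ((p ^ blockDefect p b : ℕ) : ℂ) ≠ 0 := Nat.cast_ne_zero.mpr (pow_ne_zero _ hp.out.ne_zero)
  rw [ctr]
  field_simp

variable {X : Finset G} {χ : IrrCharacter G}

open Classical in
theorem Twist.classInner_eq (T : Twist M p B P e l) (η : IrrCharacter G)
    (hX : ∀ x ∈ X, ∃ k : ℕ, orderOf x = p ^ k)
    (hXrep : ∀ g : G, (∃ k : ℕ, orderOf g = p ^ k) → ∃! x, x ∈ X ∧ IsConj g x) :
    classInner (star M p B P e l χ) (η : G → ℂ) = ∑ x ∈ X,
      ∑ᶠ b : {b : Set (IrrCharacter (Cen (Subgroup.zpowers x))) // IsPBlock M b},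
        wt M p B P e l x b.1 * (ctr p x (Cen (Subgroup.zpowers x)) b.1 χ η *
          ((p ^ blockDefect p b.1 : ℕ) : ℂ)⁻¹) := by
  rw [classInner_sections hX hXrep (T.isClassFunction_star χ) (isClassFunction_of_isIrr η.2)]
  refine Finset.sum_congr rfl fun x hx => ?_
  have := Fintype.ofFinite {b : Set (IrrCharacter (Cen (Subgroup.zpowers x))) // IsPBlock M b}
  rw [finsum_eq_sum_of_fintype, regSum_combination T.hM χ η (fun b => wt M p B P e l x b.1) (fun _ => 1)
    (fun c hc => star_section χ (hX x hx) hc) (fun c _ => irr_section η c), Finset.mul_sum]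
  refine Finset.sum_congr rfl fun b _ => ?_
  rw [map_one, mul_one, mul_left_comm, regSum_eq_ctr]

theorem Twist.norm_one (T : Twist M p B P e l) (hχ : χ ∈ B) :
    classInner (star M p B P e l χ) (star M p B P e l χ) = 1 := by
  obtain ⟨X, hX, hXrep⟩ := exists_reps (G := G) (p := p)
  have hcl := T.isClassFunction_star χ
  rw [← classInner_irr_self χ.2, classInner_sections hX hXrep hcl hcl,
    classInner_sections hX hXrep (isClassFunction_of_isIrr χ.2) (isClassFunction_of_isIrr χ.2)]
  refine Finset.sum_congr rfl fun x hx => ?_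
  have := Fintype.ofFinite {b : Set (IrrCharacter (Cen (Subgroup.zpowers x))) // IsPBlock M b}
  congr 1
  rw [regSum_combination T.hM χ χ _ _ (fun c hc => star_section χ (hX x hx) hc)
      (fun c hc => star_section χ (hX x hx) hc),
    regSum_combination T.hM χ χ _ _ (fun c hc => mem_section T.hM T.hmax.1.2.1 hχ (hX x hx) hc)
      (fun c hc => mem_section T.hM T.hmax.1.2.1 hχ (hX x hx) hc)]
  refine Finset.sum_congr rfl fun b _ => ?_
  rw [T.wt_mul_conj]
  unfold ind
  split_ifs <;> simp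

theorem Twist.classInner_conjCommute (T : Twist M p B P e l) (σ : ℂ ≃+* ℂ) (η : IrrCharacter G) :
    classInner (star M p B P e l χ) (η : G → ℂ) ∈ conjCommute σ := by
  obtain ⟨X, hX, hXrep⟩ := exists_reps (G := G) (p := p)
  rw [T.classInner_eq η hX hXrep]
  refine Subfield.sum_mem _ fun x _ => ?_
  have := Fintype.ofFinite {b : Set (IrrCharacter (Cen (Subgroup.zpowers x))) // IsPBlock M b}
  rw [finsum_eq_sum_of_fintype]
  exact Subfield.sum_mem _ fun b _ => Subfield.mul_mem _ (T.wt_conjCommute σ x b.1)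
    (Subfield.mul_mem _ (ctr_mem_conjCommute (cen_zpowers x) σ χ η) (Subfield.inv_mem _ (natCast_mem _ _)))

theorem Twist.classInner_eq_zero (T : Twist M p B P e l) {η : IrrCharacter G} (hη : η ∉ B) :
    classInner (star M p B P e l χ) (η : G → ℂ) = 0 := by
  obtain ⟨X, hX, hXrep⟩ := exists_reps (G := G) (p := p)
  rw [T.classInner_eq η hX hXrep]
  refine Finset.sum_eq_zero fun x hx => ?_
  have := Fintype.ofFinite {b : Set (IrrCharacter (Cen (Subgroup.zpowers x))) // IsPBlock M b}
  have := Fintype.ofFinite (Cen (Subgroup.zpowers x))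
  rw [finsum_eq_sum_of_fintype]
  refine Finset.sum_eq_zero fun b _ => ?_
  by_cases hb : IsBrauerPairOf p M B (Subgroup.zpowers x) b.1
  · have hind := (brauerPairOf_iff_induced T.hM (isPGroup_zpowers (hX x hx)) b.2 T.hmax.1.2.1).mp hb
    have h0 : ctr p x (Cen (Subgroup.zpowers x)) b.1 χ η = 0 := by
      rw [ctr, regSum_eq, Finset.sum_eq_zero fun s _ => ?_, mul_zero]
      split_ifs with hs
      · rfl
      · rw [secH_eq_zero (cen_zpowers x) T.hM (hX x hx) hind hη hs, map_zero, mul_zero]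
    rw [h0, zero_mul, mul_zero]
  · rw [wt, if_neg hb, zero_mul]

end CfsgLib.Star
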