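import Cfsg.Agent.Lib.Star.Irr
import Cfsg.Agent.Lib.NilBlock.Main
import Cfsg.Agent.Lib.BrauerPairs.System

/-!
# The action of the stable linear characters on the block

* `Twist.star_star`, `star_one`: the twist is an action;
* `eq_one_of_fixed`, `eq_one_of_fixed_central`: fixed characters;
* `index_dvd_card_height`: divisibility of the number of characters of a height;
* `card_killing`: linear characters killing a subgroup over the derived one.
-/

set_option autoImplicit false

noncomputable section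

namespace CfsgLib.Star

open Cfsg CfsgLib.Blocks CfsgLib.BlockArith CfsgLib.Char CfsgLib.BrauerPairs CfsgLib.NilBlock
open scoped ComplexConjugate Classical

universe u

variable {G : Type u} [Group G] [Fintype G] {M : Ideal AlgInt} [M.IsMaximal] {p : ℕ} [hp : Fact p.Prime]
  {B : Set (IrrCharacter G)} {P : Subgroup G} {e : Set (IrrCharacter (Cen P))} {l l' : P →* ℂˣ}

omit hp [M.IsMaximal] in
theorem lamVal_mul (x : G) (a : BrauerPairIdx G) :
    lamVal M p P e (l * l') x a = lamVal M p P e l x a * lamVal M p P e l' x a := by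
  unfold lamVal
  split_ifs with h
  · rw [MonoidHom.mul_apply, Units.val_mul]
  · rw [mul_zero]

/-- The twist by a product. -/
theorem Twist.star_star (T : Twist M p B P e l) {χ η : IrrCharacter G}
    (h : star M p B P e l χ = (η : G → ℂ)) :
    star M p B P e l' η = star M p B P e (l' * l) χ := by
  funext g
  obtain ⟨y, hy, hc, hxo, hyo⟩ := isPPart_ppart (p := p) g
  simp only [star, starAt]
  have hyeq : (ppart p g)⁻¹ * g = y := inv_mul_eq_iff_eq_mul.mpr hy.symm
  rw [hyeq]
  refine Finset.sum_congr rfl fun a ha => ?_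
  rw [lamVal_mul, mul_assoc]
  congr 1
  obtain ⟨hQ, hB'⟩ := mem_pairsAt.mp ha
  obtain ⟨Q, b⟩ := a
  obtain rfl : Q = Subgroup.zpowers (ppart p g) := hQ
  have hmem : y ∈ Cen (Subgroup.zpowers (ppart p g)) := mem_cen_zpowers.mpr hc.symm
  rw [secG, secG, dif_pos hmem, dif_pos hmem, secH]
  simp only [← h]
  rw [blockPart_star T.hM hxo hB'.1.2 (by rwa [Subgroup.orderOf_mk]), if_pos hB']

theorem star_one (T : Twist M p B P e 1) {χ : IrrCharacter G} (hχ : χ ∈ B) :
    star M p B P e 1 χ = (χ : G → ℂ) := by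
  funext g
  obtain ⟨y, hy, hc, hxo, hyo⟩ := isPPart_ppart (p := p) g
  simp only [star, starAt]
  have hyeq : (ppart p g)⁻¹ * g = y := inv_mul_eq_iff_eq_mul.mpr hy.symm
  rw [hyeq]
  conv_rhs => rw [← hy, ← sum_secG T.hM T.hmax.1.2.1 hχ hxo hyo hc]
  refine Finset.sum_congr rfl fun a ha => ?_
  obtain ⟨v, hv⟩ := T.exists_lamVal ha
  rw [hv, MonoidHom.one_apply, Units.val_one, one_mul]

/-- A fixed character kills the parts of nontrivial weight. -/
theorem Twist.eq_one_of_ctr (T : Twist M p B P e l) {χ : IrrCharacter G}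
    (hfix : star M p B P e l χ = (χ : G → ℂ)) (v : P)
    {b : Set (IrrCharacter (Cen (Subgroup.zpowers (v : G))))}
    (hle : SubpairLE p M (Subgroup.zpowers (v : G)) b P e) {ψ : IrrCharacter G}
    (hne : ctr p (v : G) (Cen (Subgroup.zpowers (v : G))) b χ ψ ≠ 0) : l v = 1 := by
  have hv := exists_pow_of_mem T.hmax.1.1.1 v.2
  have hB' : IsBrauerPairOf p M B (Subgroup.zpowers (v : G)) b :=
    (brauerPairOf_iff_of_subpair T.hM (a := ⟨_, b⟩) (b := ⟨P, e⟩) hle).mp T.hmax.1
  by_contra hl
  apply hne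
  have := Fintype.ofFinite (Cen (Subgroup.zpowers (v : G)))
  rw [ctr, regSum_eq, Finset.sum_eq_zero fun s _ => ?_, mul_zero]
  split_ifs with hs
  · rfl
  have h1 := blockPart_star (B := B) (P := P) (e := e) (l := l) (χ := χ) T.hM hv hB'.1.2 hs
  rw [if_pos hB', hfix] at h1
  have hlv : lamVal M p P e l (v : G) ⟨Subgroup.zpowers (v : G), b⟩ = (l v : ℂ) := by
    have hm : (1 : G) * (v : G) * (1 : G)⁻¹ ∈ P := by simp
    rw [T.lamVal_eq hB'.1 rfl hm (by rw [cjPair_one hB'.1]; exact hle)]
    exact congrArg (fun z : P => (l z : ℂ)) (Subtype.ext (show (1 : G) * (v : G) * 1⁻¹ = v by group))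
  rw [hlv] at h1
  have h2 : secH (v : G) (Cen (Subgroup.zpowers (v : G))) b χ s = 0 := by
    have h3 : ((l v : ℂ) - 1) * secH (v : G) (Cen (Subgroup.zpowers (v : G))) b χ s = 0 := by
      rw [sub_mul, one_mul, ← h1]; exact sub_self _
    exact (mul_eq_zero.mp h3).resolve_left (sub_ne_zero.mpr fun h => hl (Units.val_eq_one.mp h))
  rw [h2, zero_mul]

/-- Characters of height zero have no fixed twist. -/
theorem Twist.eq_one_of_fixed (T : Twist M p B P e l) {χ : IrrCharacter G} (hχ : χ ∈ B)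
    (h0 : blockHeight p B (χ : G → ℂ) = 0) (hfix : star M p B P e l χ = (χ : G → ℂ)) : l = 1 := by
  ext1 v
  obtain ⟨b, hle, -⟩ := existsUnique_subpair T.hM (Subgroup.zpowers_le.mpr v.2) T.hmax.1.1
  have hv := exists_pow_of_mem T.hmax.1.1.1 v.2
  have hB' : IsBrauerPairOf p M B (Subgroup.zpowers (v : G)) b :=
    (brauerPairOf_iff_of_subpair T.hM (a := ⟨_, b⟩) (b := ⟨P, e⟩) hle).mp T.hmax.1
  have := Fintype.ofFinite (Cen (Subgroup.zpowers (v : G)))
  exact T.eq_one_of_ctr hfix v hle (ctr_ne_zero (cen_zpowers _) T.hM hv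
    ((brauerPairOf_iff_induced T.hM (isPGroup_zpowers hv) hB'.1.2 T.hmax.1.2.1).mp hB') hχ h0 hχ h0)

/-- Fixed twists are trivial on the centre. -/
theorem Twist.eq_one_of_fixed_central (T : Twist M p B P e l) {χ : IrrCharacter G} (hχ : χ ∈ B)
    (hfix : star M p B P e l χ = (χ : G → ℂ)) (v : P) (hc : (v : G) ∈ Cen P) : l v = 1 := by
  have hM := T.hM
  have hmax := T.hmax
  obtain ⟨b, hle, -⟩ := existsUnique_subpair hM (Subgroup.zpowers_le.mpr v.2) hmax.1.1
  have hv := exists_pow_of_mem hmax.1.1.1 v.2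
  have hB' : IsBrauerPairOf p M B (Subgroup.zpowers (v : G)) b :=
    (brauerPairOf_iff_of_subpair hM (a := ⟨_, b⟩) (b := ⟨P, e⟩) hle).mp hmax.1
  have := Fintype.ofFinite (Cen (Subgroup.zpowers (v : G)))
  have hind := (brauerPairOf_iff_induced hM (isPGroup_zpowers hv) hB'.1.2 hmax.1.2.1).mp hB'
  have hPC : P ≤ Cen (Subgroup.zpowers (v : G)) := fun y hy => mem_cen_zpowers.mpr
    (show Commute y (v : G) from Subgroup.mem_centralizer_iff.mp hc y hy)
  have hfc : (blockFusion hM hmax).IsFullyCentralized (Subgroup.zpowers (v : G)) :=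
    ⟨Subgroup.zpowers_le.mpr v.2, fun Q _ => Subgroup.card_le_of_le (le_inf le_rfl hPC |>.trans'
      (show FusionSystem.centralizerIn P Q ≤ P from inf_le_left))⟩
  have hD := (fullyCentralized_iff hM (blockFusion_spec hM hmax) hle).mp hfc
  have hd : blockDefect p b = blockDefect p B := by
    refine Nat.pow_right_injective hp.out.two_le ?_
    show p ^ _ = p ^ _
    rw [← card_defectGroup hM hB'.1.2 hD, ← card_defectGroup hM hmax.1.2.1 (isDefectGroup_of_maximal hM hmax),
      inf_eq_left.mpr hPC, card_subgroupOf' hPC]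
  obtain ⟨χ₀, h₀, hh₀⟩ := exists_height_zero hM hmax.1.2.1
  refine T.eq_one_of_ctr hfix v hle (ψ := χ₀) ?_
  rw [ctr_conj χ₀ χ]
  exact (map_ne_zero _).mpr (ctr_ne_zero_major (cen_zpowers _) hM hv hind hd h₀ hh₀ hχ)

/-- Orbits: the index of a subgroup containing the stabilisers divides the count. -/
theorem index_dvd_card_height {L : Subgroup (P →* ℂˣ)} (hL : ∀ l ∈ L, Twist M p B P e l) (K : Subgroup L) (h : ℕ)
    (hK : ∀ l : L, ∀ χ : IrrCharacter G, χ ∈ B → blockHeight p B (χ : G → ℂ) = h →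
      star M p B P e (l : P →* ℂˣ) χ = (χ : G → ℂ) → l ∈ K) :
    K.index ∣ Nat.card {χ : IrrCharacter G // χ ∈ B ∧ blockHeight p B (χ : G → ℂ) = h} := by
  let X := {χ : IrrCharacter G // χ ∈ B ∧ blockHeight p B (χ : G → ℂ) = h}
  have hex : ∀ (l : L) (χ : X), ∃ η : X, star M p B P e (l : P →* ℂˣ) χ.1 = (η.1 : G → ℂ) := by
    intro l χ
    obtain ⟨η, hη, heq⟩ := (hL l l.2).exists_irr χ.2.1
    refine ⟨⟨η, hη, ?_⟩, heq⟩
    have hdeg : charDegree (η : G → ℂ) = charDegree (χ.1 : G → ℂ) := by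
      have h1 : (charDegree (η : G → ℂ) : ℂ) = (charDegree (χ.1 : G → ℂ) : ℂ) := by
        rw [CfsgLib.CharBlocks.coe_charDegree_irr, CfsgLib.CharBlocks.coe_charDegree_irr, ← heq,
          (hL l l.2).star_apply_one χ.2.1]
      exact_mod_cast h1
    rw [← χ.2.2, blockHeight, blockHeight, hdeg]
  choose f hf using hex
  let _ : MulAction L X :=
    { smul := f
      one_smul := fun χ => Subtype.ext (Subtype.ext ((hf 1 χ).symm.trans (star_one (hL 1 L.one_mem) χ.2.1)))
      mul_smul := fun a b χ => Subtype.ext (Subtype.ext (((hf (a * b) χ).symm.trans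
        ((hL b b.2).star_star (hf b χ)).symm).trans (hf a (f b χ)))) }
  have hstab : ∀ χ : X, MulAction.stabilizer L χ ≤ K := fun χ l hl =>
    hK l χ.1 χ.2.1 χ.2.2 ((hf l χ).trans (congrArg (fun η : X => (η.1 : G → ℂ)) hl))
  have : Finite X := Subtype.finite
  have := Fintype.ofFinite (Quotient (MulAction.orbitRel L X))
  show _ ∣ Nat.card X
  rw [Nat.card_congr (MulAction.selfEquivSigmaOrbitsQuotientStabilizer L X), Nat.card_sigma]
  exact Finset.dvd_sum fun ω _ => Subgroup.index_dvd_of_le (hstab _)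

/-- The linear characters killing `N`. -/
def killing {H : Type*} [Group H] (N : Subgroup H) : Subgroup (H →* ℂˣ) where
  carrier := {l | ∀ x ∈ N, l x = 1}
  one_mem' := fun _ _ => rfl
  mul_mem' := fun {a b} ha hb x hx => by rw [MonoidHom.mul_apply, ha x hx, hb x hx, one_mul]
  inv_mem' := fun {a} ha x hx => by rw [MonoidHom.inv_apply, ha x hx, _root_.inv_one]

theorem card_killing {H : Type*} [Group H] [Finite H] (N : Subgroup H) (hN : commutator H ≤ N) :
    Nat.card (killing N) = N.index := by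
  have : N.Normal := ⟨fun x hx g => by
    rw [show g * x * g⁻¹ = (g * x * g⁻¹ * x⁻¹) * x by group]
    exact N.mul_mem (hN (Subgroup.commutator_mem_commutator (Subgroup.mem_top g) (Subgroup.mem_top x))) hx⟩
  have hcomm : ∀ a b : H ⧸ N, a * b = b * a :=
    have := (Subgroup.Normal.quotient_commutative_iff_commutator_le (N := N)).mpr hN
    fun a b => Std.Commutative.comm a b
  let _ : CommGroup (H ⧸ N) := { (inferInstance : Group (H ⧸ N)) with mul_comm := hcomm }
  rw [Subgroup.index, ← CommGroup.card_monoidHom_of_hasEnoughRootsOfUnity (H ⧸ N) ℂ]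
  exact Nat.card_congr
    { toFun := fun l => QuotientGroup.lift N l.1 fun x hx => l.2 x hx
      invFun := fun m => ⟨m.comp (QuotientGroup.mk' N), fun x hx => by
        rw [MonoidHom.comp_apply, QuotientGroup.mk'_apply, (QuotientGroup.eq_one_iff x).mpr hx, map_one]⟩
      left_inv := fun l => Subtype.ext (MonoidHom.ext fun x => rfl)
      right_inv := fun m => MonoidHom.ext fun z => QuotientGroup.induction_on z fun x => rfl }

end CfsgLib.Star

namespace CfsgLib.Star

open Cfsg CfsgLib.Blocks CfsgLib.BlockArith CfsgLib.Char CfsgLib.BrauerPairs CfsgLib.NilBlock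

universe v

variable {G : Type v} [Group G] [Fintype G] {M : Ideal AlgInt} [M.IsMaximal] {p : ℕ} [hp : Fact p.Prime]
  {B : Set (IrrCharacter G)} {P : Subgroup G} {e : Set (IrrCharacter (Cen P))} {F : FusionSystem P}

omit [Fintype G] [M.IsMaximal] hp in
theorem focal_mem {Q : Subgroup G} {φ : Q →* G} (h : φ ∈ F.Hom Q) (x : Q) :
    (x : G)⁻¹ * φ x ∈ F.focalSubgroup := Subgroup.subset_closure ⟨Q, φ, x, h, rfl⟩

omit [Fintype G] [M.IsMaximal] hp in
theorem commutator_le_focal (F : FusionSystem P) : commutator P ≤ F.focalSubgroup.subgroupOf P := by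
  rw [commutator_eq_closure, Subgroup.closure_le]
  rintro _ ⟨a, b, rfl⟩
  show (((a * b * a⁻¹ * b⁻¹) : P) : G) ∈ F.focalSubgroup
  have h4 := focal_mem (F.conj_mem (g := (b : G)) (le_refl P) b.2) ⟨((a⁻¹ : P) : G), (a⁻¹).2⟩
  simpa [conjHom, mul_assoc] using h4

omit hp in
/-- Characters killing the focal subgroup are stable. -/
theorem twist_of_killing (hM : IsPModular p M) (hF : IsBlockFusionSystemOn p M B P e F) {l : P →* ℂˣ}
    (hl : l ∈ killing (F.focalSubgroup.subgroupOf P)) : Twist M p B P e l :=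
  { hM := hM
    hmax := hF.1
    stable := fun g v w f hle hg hle' => by
      have hQ : Subgroup.zpowers (v : G) ≤ P := Subgroup.zpowers_le.mpr v.2
      have hmap : (Subgroup.zpowers (v : G)).map (MulAut.conj g).toMonoidHom ≤ P := by
        rw [map_conj_zpowers, Subgroup.zpowers_le, hg]; exact w.2
      have hφ : conjHom (Subgroup.zpowers (v : G)) g ∈ F.Hom (Subgroup.zpowers (v : G)) :=
        (hF.2 _ _).mpr ⟨hQ, g, fun u => rfl, hmap, f, hle, hle'⟩
      have h := focal_mem hφ ⟨(v : G), Subgroup.mem_zpowers _⟩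
      have h1 : l (v⁻¹ * w) = 1 := hl _ (by
        rw [Subgroup.mem_subgroupOf]
        simpa [conjHom, hg] using h)
      rw [map_mul, map_inv, inv_mul_eq_one] at h1
      exact h1.symm }

end CfsgLib.Star
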