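import Mathlib.FieldTheory.Minpoly.Field
import Mathlib.FieldTheory.IsAlgClosed.Basic
import Mathlib.LinearAlgebra.FiniteDimensional.Basic
import Mathlib.Algebra.CharP.Lemmas

/-!
# Primitive idempotents of a subalgebra and their scalars

* `Prim S y`: `y` is a primitive idempotent of the subalgebra `S` of a finite-dimensional algebra;
* `scal`: the residue scalar on the corner `y S y`, with `scal_comm`;
* `dvd_card_class`: if `y = ∑_{k<p} σ^k c` then each `σ`-stable union of classes of primitive
  idempotents below `y` has a multiple of `p` members in a decomposition.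
-/

set_option autoImplicit false

noncomputable section

namespace CfsgLib.Star

open Polynomial

variable {k A : Type*} [Field k] [Ring A] [Algebra k A]

/-- The corner `y S y`. -/
structure InCor (S : Subalgebra k A) (y a : A) : Prop where
  mem : a ∈ S
  left : y * a = a
  right : a * y = a

/-- A primitive idempotent of `S`. -/
structure Prim (S : Subalgebra k A) (y : A) : Prop where
  idem : y * y = y
  ne : y ≠ 0
  mem : y ∈ S
  prim : ∀ e, InCor S y e → e * e = e → e = 0 ∨ e = y

variable {S : Subalgebra k A} {y a b : A}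

theorem InCor.self (hy : Prim S y) : InCor S y y := ⟨hy.mem, hy.idem, hy.idem⟩

theorem InCor.mul (ha : InCor S y a) (hb : InCor S y b) : InCor S y (a * b) :=
  ⟨S.mul_mem ha.mem hb.mem, by rw [← mul_assoc, ha.left], by rw [mul_assoc, hb.right]⟩

theorem InCor.add (ha : InCor S y a) (hb : InCor S y b) : InCor S y (a + b) :=
  ⟨S.add_mem ha.mem hb.mem, by rw [mul_add, ha.left, hb.left], by rw [add_mul, ha.right, hb.right]⟩

theorem InCor.sub (ha : InCor S y a) (hb : InCor S y b) : InCor S y (a - b) :=
  ⟨S.sub_mem ha.mem hb.mem, by rw [mul_sub, ha.left, hb.left], by rw [sub_mul, ha.right, hb.right]⟩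

theorem InCor.smul (z : k) (ha : InCor S y a) : InCor S y (z • a) :=
  ⟨S.smul_mem ha.mem z, by rw [mul_smul_comm, ha.left], by rw [smul_mul_assoc, ha.right]⟩

theorem InCor.zero : InCor S y 0 := ⟨S.zero_mem, mul_zero _, zero_mul _⟩

theorem InCor.commute (ha : InCor S y a) : Commute a y := ha.right.trans ha.left.symm

theorem inCor_sum {ι : Type*} (s : Finset ι) {f : ι → A} (h : ∀ i ∈ s, InCor S y (f i)) :
    InCor S y (∑ i ∈ s, f i) :=
  ⟨S.sum_mem fun i hi => (h i hi).mem, by rw [Finset.mul_sum]; exact Finset.sum_congr rfl fun i hi => (h i hi).left,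
    by rw [Finset.sum_mul]; exact Finset.sum_congr rfl fun i hi => (h i hi).right⟩

theorem aeval_mem {q : k[X]} (ha : a ∈ S) : aeval a q ∈ S :=
  Algebra.adjoin_le (Set.singleton_subset_iff.mpr ha) (aeval_mem_adjoin_singleton k a)

/-- A corner element times `y` on a polynomial of it. -/
theorem InCor.aeval_mul (hy : Prim S y) (ha : InCor S y a) (q : k[X]) : InCor S y (aeval a q * y) := by
  refine ⟨S.mul_mem (aeval_mem ha.mem) hy.mem, ?_, by rw [mul_assoc, hy.idem]⟩
  have hc : Commute (aeval a q) y := by
    induction q using Polynomial.induction_on with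
    | C c => rw [aeval_C]; exact Algebra.commutes c y
    | add u v hu hv => rw [map_add]; exact hu.add_left hv
    | monomial n c _ =>
      rw [map_mul, aeval_C, map_pow, aeval_X]
      exact Commute.mul_left (Algebra.commutes c y) (ha.commute.pow_left _)
  rw [← mul_assoc, ← hc.eq, mul_assoc, hy.idem]

variable [FiniteDimensional k A]

/-- The corner is local. -/
theorem Prim.dichotomy (hy : Prim S y) (ha : InCor S y a) :
    (∃ b, InCor S y b ∧ a * b = y ∧ b * a = y) ∨ IsNilpotent a := by
  have hint : IsIntegral k a := Algebra.IsIntegral.isIntegral a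
  obtain ⟨g, hfg, hg⟩ := exists_eq_pow_rootMultiplicity_mul_and_not_dvd (minpoly k a) (minpoly.ne_zero hint) 0
  rw [map_zero, sub_zero] at hfg hg
  set m := (minpoly k a).rootMultiplicity 0
  have hcop : IsCoprime (X ^ (m + 1) : k[X]) g :=
    ((irreducible_X.coprime_iff_not_dvd).mpr hg).pow_left
  obtain ⟨u, v, huv⟩ := hcop
  have hzero : a ^ (m + 1) * aeval a g = 0 := by
    rw [pow_succ', mul_assoc, show a ^ m * aeval a g = aeval a (X ^ m * g) by
      rw [map_mul, map_pow, aeval_X], ← hfg, minpoly.aeval, mul_zero]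
  have hone : aeval a (u * X ^ (m + 1)) + aeval a (v * g) = 1 := by rw [← map_add, huv, map_one]
  have hvg : ∀ q : k[X], aeval a (q * X ^ (m + 1)) * aeval a (v * g) = 0 := fun q => by
    rw [← map_mul, show q * X ^ (m + 1) * (v * g) = q * v * (X ^ (m + 1) * g) by ring, map_mul,
      map_mul _ (X ^ (m + 1)), map_pow, aeval_X, hzero, mul_zero]
  have hidem : aeval a (u * X ^ (m + 1)) * aeval a (u * X ^ (m + 1)) = aeval a (u * X ^ (m + 1)) := by
    conv_rhs => rw [← mul_one (aeval a (u * X ^ (m + 1))), ← hone, mul_add, hvg, add_zero]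
  have hE := ha.aeval_mul hy (u * X ^ (m + 1))
  have hEE : aeval a (u * X ^ (m + 1)) * y * (aeval a (u * X ^ (m + 1)) * y) =
      aeval a (u * X ^ (m + 1)) * y := by
    rw [mul_assoc, hE.left, ← mul_assoc, hidem]
  rcases hy.prim _ hE hEE with h | h
  · refine Or.inr ⟨m + 1, ?_⟩
    have hpow : ∀ n : ℕ, a ^ (n + 1) * y = a ^ (n + 1) := fun n => by rw [pow_succ, mul_assoc, ha.right]
    calc a ^ (m + 1) = a ^ (m + 1) * (aeval a (u * X ^ (m + 1)) + aeval a (v * g)) * y := by
          rw [hone, mul_one, hpow]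
      _ = a ^ (m + 1) * (aeval a (u * X ^ (m + 1)) * y) + a ^ (m + 1) * aeval a (v * g) * y := by
          rw [mul_add, add_mul, mul_assoc (a ^ (m + 1))]
      _ = 0 := by
          rw [h, mul_zero, zero_add, show a ^ (m + 1) * aeval a (v * g) = aeval a ((1 : k[X]) * X ^ (m + 1)) *
            aeval a (v * g) by rw [one_mul, map_pow, aeval_X], hvg, zero_mul]
  · refine Or.inl ⟨aeval a (u * X ^ m) * y, ha.aeval_mul hy _, ?_, ?_⟩
    · rw [← mul_assoc, show a * aeval a (u * X ^ m) = aeval a (X * (u * X ^ m)) by rw [map_mul _ X, aeval_X],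
        show X * (u * X ^ m) = u * X ^ (m + 1) by ring, h]
    · rw [mul_assoc, ha.left, show aeval a (u * X ^ m) * a = aeval a (u * X ^ m * X) by
          rw [map_mul _ _ X, aeval_X], show u * X ^ m * X = u * X ^ (m + 1) by ring]
      have h' : a ^ (m + 1) * y = a ^ (m + 1) := by rw [pow_succ, mul_assoc, ha.right]
      rw [← h]
      symm
      rw [map_mul, map_pow, aeval_X, mul_assoc, h']

omit [FiniteDimensional k A] in
theorem not_isNilpotent_of_unit (hy : Prim S y) (ha : InCor S y a) (hb : InCor S y b) (hab : a * b = y) :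
    ¬ IsNilpotent a := by
  rintro ⟨n, hn⟩
  have h : ∀ m : ℕ, a ^ (m + 1) * b = a ^ m * y := fun m => by rw [pow_succ, mul_assoc, hab]
  have hall : ∀ m : ℕ, a ^ (m + 1) = 0 → a ^ m * y = 0 := fun m hm => by rw [← h, hm, zero_mul]
  have key : ∀ m : ℕ, a ^ m * y ≠ 0 := by
    intro m
    induction m with
    | zero => rw [pow_zero, one_mul]; exact hy.ne
    | succ m ih =>
      intro h0
      rw [pow_succ, mul_assoc, ha.right, ← pow_succ] at h0
      exact ih (hall m h0)
  exact key n (by rw [hn, zero_mul])

/-- Left multiples of nilpotents are nilpotent. -/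
theorem Prim.nilpotent_mul (hy : Prim S y) (ha : InCor S y a) (hb : InCor S y b) (h : IsNilpotent a) :
    IsNilpotent (a * b) := by
  rcases hy.dichotomy (ha.mul hb) with ⟨c, hc, h1, -⟩ | h1
  · exact absurd h (not_isNilpotent_of_unit hy ha (hb.mul hc) (by rw [← mul_assoc, h1]))
  · exact h1

theorem Prim.nilpotent_mul' (hy : Prim S y) (ha : InCor S y a) (hb : InCor S y b) (h : IsNilpotent a) :
    IsNilpotent (b * a) := by
  obtain ⟨n, hn⟩ := hy.nilpotent_mul ha hb h
  refine ⟨n + 1, ?_⟩
  have : ∀ m : ℕ, (b * a) ^ (m + 1) = b * (a * b) ^ m * a := fun m => by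
    induction m with
    | zero => simp
    | succ m ih => rw [pow_succ, ih, pow_succ (a * b)]; simp only [mul_assoc]
  rw [this, hn, mul_zero, zero_mul]

/-- Nilpotents of the corner add. -/
theorem Prim.nilpotent_add (hy : Prim S y) (ha : InCor S y a) (hb : InCor S y b) (h : IsNilpotent a)
    (h' : IsNilpotent b) : IsNilpotent (a + b) := by
  rcases hy.dichotomy (ha.add hb) with ⟨c, hc, h1, -⟩ | h1
  · exfalso
    obtain ⟨n, hn⟩ := hy.nilpotent_mul ha hc h
    have hcomm : Commute (y - a * c) y := ((InCor.self hy).sub (ha.mul hc)).commute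
    have hbc : b * c = y - a * c := by rw [← h1, add_mul]; abel
    -- `y - a c` is a unit of the corner
    refine not_isNilpotent_of_unit hy ((InCor.self hy).sub (ha.mul hc))
      (b := ∑ i ∈ Finset.range n, (a * c) ^ i * y) ?_ ?_ (hbc ▸ hy.nilpotent_mul hb hc h')
    · refine inCor_sum _ fun i hi => ?_
      clear hi
      induction i with
      | zero => rw [pow_zero, one_mul]; exact InCor.self hy
      | succ i ih =>
        rw [pow_succ', mul_assoc]
        exact (ha.mul hc).mul ih
    · rw [← Finset.sum_mul, ← mul_assoc, sub_mul,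
        show y * ∑ i ∈ Finset.range n, (a * c) ^ i = (∑ i ∈ Finset.range n, (a * c) ^ i) * y from
          (Commute.sum_right _ _ _ fun i _ => ((ha.mul hc).commute.symm.pow_right i)).eq,
        sub_mul, mul_assoc _ y y, hy.idem, ← sub_mul]
      have hg := mul_neg_geom_sum (a * c) n
      rw [sub_mul, one_mul] at hg
      rw [hg, hn, sub_zero, one_mul]
  · exact h1

variable [IsAlgClosed k]

theorem Prim.exists_scal (hy : Prim S y) (ha : InCor S y a) : ∃ z : k, IsNilpotent (a - z • y) := by
  classical
  by_contra! h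
  have hsplit : minpoly k a = ((minpoly k a).roots.map fun z => X - C z).prod :=
    (Polynomial.Splits.eq_prod_roots_of_monic (IsAlgClosed.splits _)
      (minpoly.monic (Algebra.IsIntegral.isIntegral a)))
  suffices key : ∀ s : Multiset k, ∃ c, InCor S y c ∧ aeval a (s.map fun z => X - C z).prod * y * c = y by
    obtain ⟨c, -, hc⟩ := key (minpoly k a).roots
    rw [← hsplit, minpoly.aeval, zero_mul, zero_mul] at hc
    exact hy.ne hc.symm
  intro s
  induction s using Multiset.induction_on with
  | empty => exact ⟨y, InCor.self hy, by simp [hy.idem]⟩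
  | cons z s ih =>
    obtain ⟨c, hc, hc'⟩ := ih
    obtain ⟨w, hw, hw1, -⟩ := (hy.dichotomy (ha.sub ((InCor.self hy).smul z))).resolve_right (h z)
    refine ⟨c * w, hc.mul hw, ?_⟩
    rw [Multiset.map_cons, Multiset.prod_cons, map_mul]
    rw [show aeval a (X - C z) = a - algebraMap k A z by rw [map_sub, aeval_X, aeval_C],
      mul_assoc (a - algebraMap k A z)]
    have h1 : (a - algebraMap k A z) * (aeval a (s.map fun z => X - C z).prod * y) =
        (a - z • y) * (aeval a (s.map fun z => X - C z).prod * y) := by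
      rw [sub_mul, sub_mul, smul_mul_assoc, (ha.aeval_mul hy _).left, Algebra.smul_def]
    rw [h1, mul_assoc, ← mul_assoc (aeval a (s.map fun z => X - C z).prod * y), hc']
    rw [hw.left]
    exact hw1

/-- The scalar of a corner element. -/
def scal (S : Subalgebra k A) (y a : A) : k := by
  classical exact if h : ∃ z : k, IsNilpotent (a - z • y) then h.choose else 0

theorem Prim.scal_spec (hy : Prim S y) (ha : InCor S y a) : IsNilpotent (a - scal S y a • y) := by
  have h := hy.exists_scal ha
  rw [scal, dif_pos h]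
  exact h.choose_spec

theorem Prim.scal_eq (hy : Prim S y) (ha : InCor S y a) {z : k} (h : IsNilpotent (a - z • y)) :
    scal S y a = z := by
  by_contra hne
  have h' := hy.nilpotent_add (ha.sub ((InCor.self hy).smul z))
    ((InCor.zero).sub (ha.sub ((InCor.self hy).smul (scal S y a)))) h
    (by rw [zero_sub]; exact (hy.scal_spec ha).neg)
  have he : a - z • y + (0 - (a - scal S y a • y)) = (scal S y a - z) • y := by rw [sub_smul]; abel
  rw [he] at h'
  obtain ⟨n, hn⟩ := h'
  have hp : ∀ m : ℕ, y ^ (m + 1) = y := fun m => by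
    induction m with
    | zero => rw [pow_one]
    | succ m ih => rw [pow_succ, ih, hy.idem]
  have h0 : ((scal S y a - z) • y) ^ (n + 1) = 0 := by rw [pow_succ, hn, zero_mul]
  rw [smul_pow, hp] at h0
  exact hy.ne ((smul_eq_zero.mp h0).resolve_left (pow_ne_zero _ (sub_ne_zero.mpr hne)))

theorem Prim.scal_self (hy : Prim S y) : scal S y y = 1 :=
  hy.scal_eq (InCor.self hy) (by rw [one_smul, sub_self]; exact IsNilpotent.zero)

theorem Prim.scal_zero (hy : Prim S y) : scal S y 0 = (0 : k) :=
  hy.scal_eq InCor.zero (by rw [zero_smul, sub_self]; exact IsNilpotent.zero)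

theorem Prim.scal_add (hy : Prim S y) (ha : InCor S y a) (hb : InCor S y b) :
    scal S y (a + b) = scal S y a + scal S y b := by
  refine hy.scal_eq (ha.add hb) ?_
  have h := hy.nilpotent_add (ha.sub ((InCor.self hy).smul _)) (hb.sub ((InCor.self hy).smul _))
    (hy.scal_spec ha) (hy.scal_spec hb)
  convert h using 1
  rw [add_smul]; abel

theorem Prim.scal_sum (hy : Prim S y) {ι : Type*} (s : Finset ι) {f : ι → A}
    (h : ∀ i ∈ s, InCor S y (f i)) : scal S y (∑ i ∈ s, f i) = ∑ i ∈ s, scal S y (f i) := by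
  classical
  induction s using Finset.induction_on with
  | empty => simp [hy.scal_zero]
  | insert x s hx ih =>
    have hs : ∀ i ∈ s, InCor S y (f i) := fun i hi => h i (Finset.mem_insert_of_mem hi)
    rw [Finset.sum_insert hx, Finset.sum_insert hx,
      hy.scal_add (h x (Finset.mem_insert_self _ _)) (inCor_sum s hs), ih hs]

/-- `scal (x y) = scal (y x)` across two idempotents. -/
theorem Prim.scal_comm {j j' x w : A} (hj : Prim S j) (hj' : Prim S j') (hxS : x ∈ S) (hwS : w ∈ S)
    (hx : j * x = x) (hx' : x * j' = x) (hw : j' * w = w) (hw' : w * j = w) :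
    scal S j (x * w) = scal S j' (w * x) := by
  have h1 : InCor S j (x * w) := ⟨S.mul_mem hxS hwS, by rw [← mul_assoc, hx], by rw [mul_assoc, hw']⟩
  have h2 : InCor S j' (w * x) := ⟨S.mul_mem hwS hxS, by rw [← mul_assoc, hw], by rw [mul_assoc, hx']⟩
  have hn := hj.scal_spec h1
  obtain ⟨n, hn⟩ := hn
  set z := scal S j (x * w)
  -- `(w x - z) w x` is nilpotent
  have hb : (w * x - z • j') * (w * x) = w * (x * w - z • j) * x := by
    simp only [sub_mul, mul_sub, smul_mul_assoc, mul_smul_comm, ← mul_assoc, hw, hw']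
  have hpow : ∀ m : ℕ, ((w * x - z • j') * (w * x)) ^ (m + 1) =
      w * (((x * w - z • j) * (x * w)) ^ m * ((x * w - z • j) * x)) := by
    intro m
    induction m with
    | zero => rw [pow_one, pow_zero, one_mul, hb, mul_assoc]
    | succ m ih =>
      rw [pow_succ, ih, hb, pow_succ ((x * w - z • j) * (x * w))]
      simp only [mul_assoc]
  have hnil : IsNilpotent ((w * x - z • j') * (w * x)) := by
    refine ⟨n + 1, ?_⟩
    have hc : Commute (x * w - z • j) (x * w) :=
      (Commute.refl _).sub_left (Commute.smul_left h1.commute.symm z)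
    rw [hpow, hc.mul_pow, hn, zero_mul, zero_mul, mul_zero]
  have hd := h2.sub ((InCor.self hj').smul z)
  by_cases hz : scal S j' (w * x) = z
  · exact hz.symm
  -- otherwise `w x` is nilpotent, hence so is `x w`, so `z = 0`
  rcases hj'.dichotomy hd with ⟨c, hc, -, hc2⟩ | hc
  · have h3 : IsNilpotent (w * x) := by
      have h4 := hj'.nilpotent_mul' (hd.mul h2) hc hnil
      rw [← mul_assoc, hc2, h2.left] at h4
      exact h4
    have h5 : scal S j' (w * x) = 0 := hj'.scal_eq h2 (by rw [zero_smul, sub_zero]; exact h3)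
    have h6 : IsNilpotent (x * w) := by
      obtain ⟨m, hm⟩ := h3
      refine ⟨m + 1, ?_⟩
      have : ∀ r : ℕ, (x * w) ^ (r + 1) = x * (w * x) ^ r * w := fun r => by
        induction r with
        | zero => simp
        | succ r ih => rw [pow_succ, ih, pow_succ (w * x)]; simp only [mul_assoc]
      rw [this, hm, mul_zero, zero_mul]
    rw [h5]
    exact hj.scal_eq h1 (by rw [zero_smul, sub_zero]; exact h6)
  · exact absurd (hj'.scal_eq h2 hc) hz

open Classical in
/-- The classes of a decomposition meet each invariant value a multiple of `p` times. -/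
theorem dvd_card_class {p : ℕ} [CharP k p] {β : Type*} (P : A → β) (σ : A ≃ₐ[k] A)
    (hσS : ∀ a, σ a ∈ S ↔ a ∈ S)
    (hP : ∀ j j', Prim S j → Prim S j' → ∀ x w, x ∈ S → w ∈ S → j * x = x → x * j' = x → j' * w = w →
      w * j = w → scal S j (x * w) ≠ 0 → P j = P j')
    (hPσ : ∀ j, Prim S j → P (σ j) = P j)
    {y c : A} (hy : σ y = y) (hc : InCor S y c) (hyc : y = ∑ i ∈ Finset.range p, (⇑σ)^[i] c)
    {ι : Type*} [Fintype ι] (j : ι → A) (hj : ∀ l, Prim S (j l)) (hjy : ∑ l, j l = y)
    (horth : ∀ l l', l ≠ l' → j l * j l' = 0) (v : β) :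
    p ∣ (Finset.univ.filter fun l => P (j l) = v).card := by
  have hjσ : ∀ l, Prim S (σ (j l)) := fun l => by
    refine ⟨by rw [← map_mul, (hj l).idem], fun h => (hj l).ne (σ.injective (h.trans (map_zero σ).symm)),
      (hσS _).mpr (hj l).mem, fun e he hee => ?_⟩
    obtain ⟨e', rfl⟩ := σ.surjective e
    have he' : InCor S (j l) e' := ⟨(hσS _).mp he.mem, σ.injective (by rw [map_mul]; exact he.left),
      σ.injective (by rw [map_mul]; exact he.right)⟩
    rcases (hj l).prim e' he' (σ.injective (by rw [map_mul]; exact hee)) with h | h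
    · exact Or.inl (by rw [h, map_zero])
    · exact Or.inr (by rw [h])
  have hyidem : y * y = y := by
    rw [← hjy, Finset.sum_mul_sum]
    refine Finset.sum_congr rfl fun l _ => ?_
    rw [Finset.sum_eq_single l (fun l' _ h => horth l l' (Ne.symm h)) (fun h => absurd (Finset.mem_univ l) h),
      (hj l).idem]
  have hySy : y ∈ S := by rw [← hjy]; exact S.sum_mem fun l _ => (hj l).mem
  -- the value does not depend on the decomposition
  have hswap : ∀ a, InCor S y a →
      ∑ l ∈ Finset.univ.filter (fun l => P (j l) = v), scal S (j l) (j l * a * j l) =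
      ∑ m ∈ Finset.univ.filter (fun l => P (j l) = v), scal S (σ (j m)) (σ (j m) * a * σ (j m)) := by
    intro a ha
    have hcor : ∀ {q t : A}, Prim S q → t ∈ S → InCor S q (q * t * q) := fun {q t} hq ht =>
      ⟨S.mul_mem (S.mul_mem hq.mem ht) hq.mem, by simp only [← mul_assoc, hq.idem],
        by simp only [mul_assoc, hq.idem]⟩
    have hσsum : ∑ m, σ (j m) = y := by rw [← map_sum, hjy, hy]
    have hL : ∀ l, P (j l) = v → scal S (j l) (j l * a * j l) =
        ∑ m ∈ Finset.univ.filter (fun l => P (j l) = v),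
          scal S (j l) (j l * a * σ (j m) * (σ (j m) * j l)) := by
      intro l hl
      have hexp : j l * a * j l = ∑ m, j l * (a * σ (j m)) * j l := by
        rw [← Finset.sum_mul, ← Finset.mul_sum, ← Finset.mul_sum, hσsum, ha.right]
      rw [hexp, (hj l).scal_sum _ fun m _ => hcor (hj l) (S.mul_mem ha.mem (hjσ m).mem), Finset.sum_filter]
      refine Finset.sum_congr rfl fun m _ => ?_
      have hre : j l * (a * σ (j m)) * j l = j l * a * σ (j m) * (σ (j m) * j l) := by
        simp only [mul_assoc]
        rw [← mul_assoc (σ (j m)) (σ (j m)) (j l), (hjσ m).idem]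
      rw [hre]
      split_ifs with hm
      · rfl
      · by_contra hne
        refine hm ?_
        have := hP (j l) (σ (j m)) (hj l) (hjσ m) (j l * a * σ (j m)) (σ (j m) * j l)
          (S.mul_mem (S.mul_mem (hj l).mem ha.mem) (hjσ m).mem) (S.mul_mem (hjσ m).mem (hj l).mem)
          (by simp only [← mul_assoc, (hj l).idem]) (by simp only [mul_assoc, (hjσ m).idem])
          (by rw [← mul_assoc, (hjσ m).idem]) (by rw [mul_assoc, (hj l).idem]) hne
        rw [hPσ _ (hj m)] at this
        rw [← this, hl]
    have hR : ∀ m, P (j m) = v → scal S (σ (j m)) (σ (j m) * a * σ (j m)) =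
        ∑ l ∈ Finset.univ.filter (fun l => P (j l) = v),
          scal S (σ (j m)) (σ (j m) * j l * (j l * a * σ (j m))) := by
      intro m hm
      have hexp : σ (j m) * a * σ (j m) = ∑ l, σ (j m) * (j l * a) * σ (j m) := by
        rw [← Finset.sum_mul, ← Finset.mul_sum, ← Finset.sum_mul, hjy, ha.left]
      rw [hexp, (hjσ m).scal_sum _ fun l _ => hcor (hjσ m) (S.mul_mem (hj l).mem ha.mem), Finset.sum_filter]
      refine Finset.sum_congr rfl fun l _ => ?_
      have hre : σ (j m) * (j l * a) * σ (j m) = σ (j m) * j l * (j l * a * σ (j m)) := by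
        simp only [mul_assoc]
        rw [← mul_assoc (j l) (j l), (hj l).idem]
      rw [hre]
      split_ifs with hl
      · rfl
      · by_contra hne
        refine hl ?_
        have := hP (σ (j m)) (j l) (hjσ m) (hj l) (σ (j m) * j l) (j l * a * σ (j m))
          (S.mul_mem (hjσ m).mem (hj l).mem) (S.mul_mem (S.mul_mem (hj l).mem ha.mem) (hjσ m).mem)
          (by rw [← mul_assoc, (hjσ m).idem]) (by rw [mul_assoc, (hj l).idem])
          (by simp only [← mul_assoc, (hj l).idem]) (by simp only [mul_assoc, (hjσ m).idem]) hne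
        rw [hPσ _ (hj m)] at this
        rw [← this, hm]
    rw [Finset.sum_congr rfl fun l hl => hL l (Finset.mem_filter.mp hl).2,
      Finset.sum_congr rfl fun m hm => hR m (Finset.mem_filter.mp hm).2, Finset.sum_comm]
    refine Finset.sum_congr rfl fun m _ => Finset.sum_congr rfl fun l _ => ?_
    exact (hj l).scal_comm (hjσ m) (S.mul_mem (S.mul_mem (hj l).mem ha.mem) (hjσ m).mem)
      (S.mul_mem (hjσ m).mem (hj l).mem) (by simp only [← mul_assoc, (hj l).idem])
      (by simp only [mul_assoc, (hjσ m).idem]) (by rw [← mul_assoc, (hjσ m).idem]) (by rw [mul_assoc, (hj l).idem])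
  set τ : A → k := fun a => ∑ l ∈ Finset.univ.filter (fun l => P (j l) = v), scal S (j l) (j l * a * j l)
    with hτ
  have hσcor : ∀ a, InCor S y a → InCor S y (σ a) := fun a ha =>
    ⟨(hσS a).mpr ha.mem, by rw [← hy, ← map_mul, ha.left], by rw [← hy, ← map_mul, ha.right]⟩
  have hτσ : ∀ a, InCor S y a → τ (σ a) = τ a := by
    intro a ha
    show ∑ l ∈ _, _ = _
    rw [hswap _ (hσcor a ha)]
    refine Finset.sum_congr rfl fun m _ => ?_
    have hca : InCor S (j m) (j m * a * j m) := ⟨S.mul_mem (S.mul_mem (hj m).mem ha.mem) (hj m).mem,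
      by simp only [← mul_assoc, (hj m).idem], by simp only [mul_assoc, (hj m).idem]⟩
    rw [← map_mul, ← map_mul]
    refine (hjσ m).scal_eq ⟨(hσS _).mpr hca.mem, by rw [← map_mul, hca.left],
      by rw [← map_mul, hca.right]⟩ ?_
    rw [← map_smul, ← map_sub]
    exact ((hj m).scal_spec hca).map σ
  have hiter : ∀ i : ℕ, InCor S y ((⇑σ)^[i] c) ∧ τ ((⇑σ)^[i] c) = τ c := fun i => by
    induction i with
    | zero => exact ⟨hc, rfl⟩
    | succ i ih =>
      rw [Function.iterate_succ_apply']
      exact ⟨hσcor _ ih.1, (hτσ _ ih.1).trans ih.2⟩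
  have hy1 : τ y = ((Finset.univ.filter fun l => P (j l) = v).card : k) := by
    show ∑ l ∈ _, _ = _
    rw [Finset.sum_congr rfl (g := fun _ => (1 : k)) fun l _ => ?_, Finset.sum_const, nsmul_eq_mul, mul_one]
    rw [show j l * y * j l = j l by
      rw [← hjy, Finset.mul_sum, Finset.sum_eq_single l (fun l' _ h => horth l l' (Ne.symm h))
        (fun h => absurd (Finset.mem_univ l) h), (hj l).idem, (hj l).idem], (hj l).scal_self]
  have hy2 : τ y = 0 := by
    conv_lhs => rw [hyc]
    have hadd : τ (∑ i ∈ Finset.range p, (⇑σ)^[i] c) = ∑ i ∈ Finset.range p, τ ((⇑σ)^[i] c) := by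
      simp only [hτ, Finset.mul_sum, Finset.sum_mul]
      rw [Finset.sum_comm (s := Finset.range p)]
      refine Finset.sum_congr rfl fun l _ => (hj l).scal_sum _ fun i _ => ?_
      exact ⟨S.mul_mem (S.mul_mem (hj l).mem (hiter i).1.mem) (hj l).mem,
        by simp only [← mul_assoc, (hj l).idem], by simp only [mul_assoc, (hj l).idem]⟩
    rw [hadd, Finset.sum_congr rfl fun i _ => (hiter i).2, Finset.sum_const, Finset.card_range,
      nsmul_eq_mul, CharP.cast_eq_zero, zero_mul]
  exact (CharP.cast_eq_zero_iff k p _).mp (hy1.symm.trans hy2)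

end CfsgLib.Star
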