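import Cfsg.Agent.Lib.NilBlock.Rows

/-!
# The twist of a character of a block by a stable linear character of its defect group

* `Twist`: a linear character `l` of the top of a maximal pair that agrees on conjugate subsections;
* `star`: on the section of `x` the part in each local block is scaled by the value of `l`;
* `secG_star`: the local parts of `star`.
-/

set_option autoImplicit false

noncomputable section

namespace CfsgLib.Star

open Cfsg CfsgLib.Blocks CfsgLib.BlockArith CfsgLib.Char CfsgLib.BrauerPairs CfsgLib.NilBlock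
open scoped ComplexConjugate Classical

universe u

variable {G : Type u} [Group G] [Fintype G] {M : Ideal AlgInt} [M.IsMaximal] {p : ℕ} [hp : Fact p.Prime]
  {B : Set (IrrCharacter G)} {P : Subgroup G} {e : Set (IrrCharacter (Cen P))} {l : P →* ℂˣ}

omit [M.IsMaximal] hp in
/-- Transport of the local parts. -/
theorem secH_tblock {H H' : Subgroup G} (g x : G) (e : H ≃* H') (he : ∀ c : H, (e c : G) = g * c * g⁻¹)
    (b : Set (IrrCharacter H)) (η : IrrCharacter G) (c : H) :
    secH (g * x * g⁻¹) H' (tblock e b) η (e c) = secH x H b η c := by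
  have := Fintype.ofFinite H
  have := Fintype.ofFinite H'
  rw [secH, secH, blockPart_apply, blockPart_apply]
  refine Fintype.sum_equiv
    { toFun := tirr e.symm
      invFun := tirr e
      left_inv := fun χ' => Subtype.ext (funext fun y => congrArg (χ' : H' → ℂ) (e.apply_symm_apply y))
      right_inv := fun χ => Subtype.ext (funext fun y => congrArg (χ : H → ℂ) (e.symm_apply_apply y)) }
    _ _ fun φ' => ?_
  simp only [Equiv.coe_fn_mk, mem_tblock]
  refine if_congr Iff.rfl ?_ rfl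
  congr 1
  · rw [classInner, classInner, Nat.card_congr e.symm.toEquiv]
    congr 1
    refine Fintype.sum_equiv e.symm.toEquiv _ _ fun y => ?_
    simp only [MulEquiv.toEquiv_eq_coe, EquivLike.coe_coe, tirr, Function.comp_apply,
      MulEquiv.symm_symm, MulEquiv.apply_symm_apply]
    congr 1
    rw [show (y : G) = g * (e.symm y : G) * g⁻¹ by rw [← he, MulEquiv.apply_symm_apply],
      show g * x * g⁻¹ * (g * (e.symm y : G) * g⁻¹) = g * (x * (e.symm y : G)) * g⁻¹ by group,
      isClassFunction_of_isIrr η.2]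

variable (p M B P e l) in
/-- `l` is a linear character agreeing on conjugate subsections. -/
structure Twist : Prop where
  hM : IsPModular p M
  hmax : IsMaximalBrauerPair p M B P e
  stable : ∀ (g : G) (v w : P) (f : Set (IrrCharacter (Cen (Subgroup.zpowers (v : G))))),
    SubpairLE p M (Subgroup.zpowers (v : G)) f P e → g * (v : G) * g⁻¹ = w →
      Relation.ReflTransGen (NormalSubpairRel p M) (cjPair g ⟨_, f⟩) (⟨P, e⟩ : BrauerPairIdx G) → l w = l v

variable (p M P e l) in
/-- The value of `l` on a subsection. -/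
def lamVal (x : G) (a : BrauerPairIdx G) : ℂ :=
  if h : ∃ g : G, g * x * g⁻¹ ∈ P ∧ Relation.ReflTransGen (NormalSubpairRel p M) (cjPair g a) ⟨P, e⟩ then
    (l ⟨h.choose * x * h.choose⁻¹, h.choose_spec.1⟩ : ℂ) else 0

variable (p M B) in
/-- The pairs of `B` on `⟨x⟩`. -/
def pairsAt (x : G) : Finset (BrauerPairIdx G) :=
  haveI := Fintype.ofFinite (BrauerPairIdx G)
  Finset.univ.filter fun a => a.1 = Subgroup.zpowers x ∧ IsBrauerPairOf p M B a.1 a.2

omit [M.IsMaximal] hp in
theorem mem_pairsAt {x : G} {a : BrauerPairIdx G} :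
    a ∈ pairsAt M p B x ↔ a.1 = Subgroup.zpowers x ∧ IsBrauerPairOf p M B a.1 a.2 := by
  simp [pairsAt]

/-- The part in a pair of `χ` on the section of `x`. -/
def secG (x : G) (a : BrauerPairIdx G) (χ : IrrCharacter G) (s : G) : ℂ :=
  if h : s ∈ Cen a.1 then secH x (Cen a.1) a.2 χ ⟨s, h⟩ else 0

omit [M.IsMaximal] hp in
theorem secG_coe (x : G) (a : BrauerPairIdx G) (χ : IrrCharacter G) (s : Cen a.1) :
    secG x a χ s = secH x (Cen a.1) a.2 χ s := by simp [secG]

omit [M.IsMaximal] hp in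
theorem secG_conj (h x : G) (a : BrauerPairIdx G) (χ : IrrCharacter G) (s : G) :
    secG (h * x * h⁻¹) (cjPair h a) χ (h * s * h⁻¹) = secG x a χ s := by
  have hmem : ∀ y, y ∈ Cen (cjPair h a).1 ↔ h⁻¹ * y * h ∈ Cen a.1 := fun y => by
    rw [cjPair_fst]; exact mem_centralizer_map_conj
  have e0 : h⁻¹ * (h * s * h⁻¹) * h = s := by group
  by_cases hs : s ∈ Cen a.1
  · have hs' : h * s * h⁻¹ ∈ Cen (cjPair h a).1 := (hmem _).mpr (by rwa [e0])
    rw [secG, secG, dif_pos hs, dif_pos hs']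
    show secH _ (Cen (a.1.map (MulAut.conj h).toMonoidHom)) (conjBlock a.1 h a.2) χ _ = _
    rw [conjBlock_eq_tblock]
    exact secH_tblock h x _ (fun c => rfl) a.2 χ ⟨s, hs⟩
  · have hs' : h * s * h⁻¹ ∉ Cen (cjPair h a).1 := fun h' => hs (by simpa [e0] using (hmem _).mp h')
    rw [secG, secG, dif_neg hs, dif_neg hs']

variable (p M B P e l) in
/-- The twist on the section of `x`. -/
def starAt (χ : IrrCharacter G) (x s : G) : ℂ :=
  ∑ a ∈ pairsAt M p B x, lamVal M p P e l x a * secG x a χ s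

/-- The `p`-part. -/
def ppart (p : ℕ) [Fact p.Prime] (g : G) : G := (exists_isPPart (p := p) g).choose

omit [M.IsMaximal] in
theorem isPPart_ppart (g : G) : IsPPart p g (ppart p g) := (exists_isPPart (p := p) g).choose_spec

omit [M.IsMaximal] in
theorem ppart_eq {g x : G} (h : IsPPart p g x) : ppart p g = x := isPPart_unique (isPPart_ppart g) h

variable (p M B P e l) in
/-- The twist of `χ` by `l`. -/
def star (χ : IrrCharacter G) (g : G) : ℂ := starAt M p B P e l χ (ppart p g) ((ppart p g)⁻¹ * g)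

theorem star_mul {χ : IrrCharacter G} {x s : G} (hx : ∃ k : ℕ, orderOf x = p ^ k) (hs : ¬ p ∣ orderOf s)
    (hc : Commute x s) : star M p B P e l χ (x * s) = starAt M p B P e l χ x s := by
  rw [star, ppart_eq (isPPart_mul hc hx hs), inv_mul_cancel_left]

theorem Twist.lamVal_eq (T : Twist M p B P e l) {x g : G} {a : BrauerPairIdx G}
    (hb : IsBrauerPair p M a.1 a.2) (ha : a.1 = Subgroup.zpowers x) (hm : g * x * g⁻¹ ∈ P)
    (hle : Relation.ReflTransGen (NormalSubpairRel p M) (cjPair g a) ⟨P, e⟩) :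
    lamVal M p P e l x a = (l ⟨g * x * g⁻¹, hm⟩ : ℂ) := by
  have h : ∃ g : G, g * x * g⁻¹ ∈ P ∧ Relation.ReflTransGen (NormalSubpairRel p M) (cjPair g a)
      (⟨P, e⟩ : BrauerPairIdx G) := ⟨g, hm, hle⟩
  rw [lamVal, dif_pos h]
  obtain ⟨hm', hle'⟩ := h.choose_spec
  set g' := h.choose
  generalize hc : cjPair g a = c at hle
  obtain ⟨Q', f'⟩ := c
  obtain rfl : Q' = Subgroup.zpowers (g * x * g⁻¹) := by
    rw [← map_conj_zpowers, ← ha, ← cjPair_fst, hc]
  refine congrArg (fun z : ℂˣ => (z : ℂ)) (T.stable (g' * g⁻¹) ⟨_, hm⟩ ⟨_, hm'⟩ f' hle ?_ ?_)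
  · show g' * g⁻¹ * (g * x * g⁻¹) * (g' * g⁻¹)⁻¹ = g' * x * g'⁻¹
    group
  · show Relation.ReflTransGen _ (cjPair (g' * g⁻¹) (⟨Subgroup.zpowers (g * x * g⁻¹), f'⟩ : BrauerPairIdx G)) _
    rw [← hc, cjPair_cjPair _ _ hb, inv_mul_cancel_right]
    exact hle'

/-- A subsection has a witness in `P`. -/
theorem Twist.exists_witness (T : Twist M p B P e l) {x : G} {a : BrauerPairIdx G}
    (ha : a ∈ pairsAt M p B x) :
    ∃ g : G, g * x * g⁻¹ ∈ P ∧ Relation.ReflTransGen (NormalSubpairRel p M) (cjPair g a) ⟨P, e⟩ := by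
  obtain ⟨hx, hB⟩ := mem_pairsAt.mp ha
  obtain ⟨g, hg⟩ := exists_conj_le_maximal T.hM (a := a) (b := ⟨P, e⟩) T.hmax hB
  refine ⟨g, subgroup_le hg ?_, hg⟩
  rw [cjPair_fst, hx, map_conj_zpowers]
  exact Subgroup.mem_zpowers _

theorem Twist.exists_lamVal (T : Twist M p B P e l) {x : G} {a : BrauerPairIdx G}
    (ha : a ∈ pairsAt M p B x) : ∃ v : P, lamVal M p P e l x a = (l v : ℂ) := by
  obtain ⟨g, hm, hle⟩ := T.exists_witness ha
  obtain ⟨hx, hB⟩ := mem_pairsAt.mp ha
  exact ⟨_, T.lamVal_eq hB.1 hx hm hle⟩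

theorem cjPair_mem_pairsAt (hM : IsPModular p M) (h : G) {x : G} {a : BrauerPairIdx G}
    (ha : a ∈ pairsAt M p B x) : cjPair h a ∈ pairsAt M p B (h * x * h⁻¹) := by
  obtain ⟨hx, hB⟩ := mem_pairsAt.mp ha
  exact mem_pairsAt.mpr ⟨by rw [cjPair_fst, hx, map_conj_zpowers], brauerPairOf_cjPair hM h hB⟩

theorem Twist.lamVal_conj (T : Twist M p B P e l) (h : G) {x : G} {a : BrauerPairIdx G}
    (ha : a ∈ pairsAt M p B x) :
    lamVal M p P e l (h * x * h⁻¹) (cjPair h a) = lamVal M p P e l x a := by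
  obtain ⟨g, hm, hle⟩ := T.exists_witness ha
  obtain ⟨hx, hB⟩ := mem_pairsAt.mp ha
  have e1 : g * h⁻¹ * (h * x * h⁻¹) * (g * h⁻¹)⁻¹ = g * x * g⁻¹ := by group
  obtain ⟨hx', hB'⟩ := mem_pairsAt.mp (cjPair_mem_pairsAt T.hM h ha)
  rw [T.lamVal_eq hB'.1 hx' (g := g * h⁻¹) (by rw [e1]; exact hm)
      (by rw [cjPair_cjPair _ _ hB.1, inv_mul_cancel_right]; exact hle), T.lamVal_eq hB.1 hx hm hle]
  exact congrArg (fun z : ℂˣ => (z : ℂ)) (congrArg l (Subtype.ext e1))

theorem Twist.isClassFunction_star (T : Twist M p B P e l) (χ : IrrCharacter G) :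
    IsClassFunction G (star M p B P e l χ) := by
  intro g h
  rw [star, star, ppart_eq (isPPart_conj (isPPart_ppart g) h)]
  have e1 : (h * ppart p g * h⁻¹)⁻¹ * (h * g * h⁻¹) = h * ((ppart p g)⁻¹ * g) * h⁻¹ := by group
  rw [e1, starAt, starAt]
  symm
  refine Finset.sum_bij (fun a _ => cjPair h a) (fun a ha => cjPair_mem_pairsAt T.hM h ha) ?_ ?_ ?_
  · intro a ha b hb hab
    have := congrArg (cjPair h⁻¹) hab
    rwa [cjPair_cjPair _ _ (mem_pairsAt.mp ha).2.1, cjPair_cjPair _ _ (mem_pairsAt.mp hb).2.1, inv_mul_cancel,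
      cjPair_one (mem_pairsAt.mp ha).2.1, cjPair_one (mem_pairsAt.mp hb).2.1] at this
  · intro b hb
    have h1 := cjPair_mem_pairsAt T.hM h⁻¹ hb
    rw [show h⁻¹ * (h * ppart p g * h⁻¹) * h⁻¹⁻¹ = ppart p g by group] at h1
    exact ⟨_, h1, by rw [cjPair_cjPair _ _ (mem_pairsAt.mp hb).2.1, mul_inv_cancel,
      cjPair_one (mem_pairsAt.mp hb).2.1]⟩
  · intro a ha
    rw [T.lamVal_conj h ha, secG_conj]

/-- Without a twist the parts add up to the character. -/
theorem sum_secG (hM : IsPModular p M) (hB : IsPBlock M B) {χ : IrrCharacter G} (hχ : χ ∈ B) {x s : G}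
    (hx : ∃ k : ℕ, orderOf x = p ^ k) (hs : ¬ p ∣ orderOf s) (hc : Commute x s) :
    ∑ a ∈ pairsAt M p B x, secG x a χ s = (χ : G → ℂ) (x * s) := by
  have := Fintype.ofFinite (Cen (Subgroup.zpowers x))
  have := Fintype.ofFinite {b : Set (IrrCharacter (Cen (Subgroup.zpowers x))) // IsPBlock M b}
  have hmem : s ∈ Cen (Subgroup.zpowers x) := by
    rw [cen_zpowers]; exact Subgroup.mem_centralizer_singleton_iff.mpr hc.eq.symm
  have h := sum_inducingH (cen_zpowers x) hM hx hB χ hχ (y := ⟨s, hmem⟩) (by rwa [Subgroup.orderOf_mk])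
  rw [← h, ← Finset.sum_filter]
  symm
  refine Finset.sum_bij (fun b _ => (⟨Subgroup.zpowers x, b.1⟩ : BrauerPairIdx G)) (fun b hb => ?_)
    (fun b _ b' _ h => Subtype.ext (eq_of_heq (Sigma.mk.injEq .. ▸ h).2)) ?_ ?_
  · exact mem_pairsAt.mpr ⟨rfl,
      (brauerPairOf_iff_induced hM (isPGroup_zpowers hx) b.2 hB).mpr (Finset.mem_filter.mp hb).2⟩
  · rintro ⟨Q, f⟩ hf
    obtain ⟨hQ, hf'⟩ := mem_pairsAt.mp hf
    obtain rfl : Q = Subgroup.zpowers x := hQ
    exact ⟨⟨f, hf'.1.2⟩, Finset.mem_filter.mpr ⟨Finset.mem_univ _,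
      (brauerPairOf_iff_induced hM (isPGroup_zpowers hx) hf'.1.2 hB).mp hf'⟩, rfl⟩
  · intro b _
    rw [secG, dif_pos hmem]

omit [M.IsMaximal] hp in
/-- Block parts are orthogonal projections. -/
theorem blockPart_blockPart {H : Type*} [Group H] [Fintype H] {b b' : Set (IrrCharacter H)}
    (hb : IsPBlock M b) (hb' : IsPBlock M b') [M.IsMaximal] (F : H → ℂ) (y : H) :
    blockPart b (blockPart b' F) y = if b = b' then blockPart b F y else 0 := by
  have hin : ∀ φ : IrrCharacter H, classInner (blockPart b' F) (φ : H → ℂ) =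
      if φ ∈ b' then classInner F (φ : H → ℂ) else 0 := by
    intro φ
    rw [show blockPart b' F = ∑ ψ : IrrCharacter H,
        (if ψ ∈ b' then classInner F (ψ : H → ℂ) else 0) • (ψ : H → ℂ) from funext fun z => by
      rw [blockPart_apply, Finset.sum_apply]
      exact Finset.sum_congr rfl fun ψ _ => by simp [ite_mul],
      classInner_sum_left, Finset.sum_eq_single φ]
    · rw [classInner_smul_left, classInner_irr_self φ.2, mul_one]
    · intro ψ _ hne
      rw [classInner_smul_left, classInner_irr_ne ψ.2 φ.2 fun h => hne (Subtype.ext h), mul_zero]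
    · exact fun h => absurd (Finset.mem_univ φ) h
  simp only [blockPart_apply, hin]
  split_ifs with h
  · subst h
    exact Finset.sum_congr rfl fun φ _ => by split_ifs <;> rfl
  · refine Finset.sum_eq_zero fun φ _ => ?_
    split_ifs with h1 h2
    · exact absurd (isPBlock_eq_of_mem hb hb' h1 h2) h
    · rw [zero_mul]
    · rfl

open Classical in
/-- The local parts of the twist. -/
theorem blockPart_star (hM : IsPModular p M) {χ : IrrCharacter G} {x : G}
    (hx : ∃ k : ℕ, orderOf x = p ^ k) {b : Set (IrrCharacter (Cen (Subgroup.zpowers x)))} (hb : IsPBlock M b)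
    {s : Cen (Subgroup.zpowers x)} (hs : ¬ p ∣ orderOf s) :
    blockPart b (fun c : Cen (Subgroup.zpowers x) => star M p B P e l χ (x * (c : G))) s =
      if IsBrauerPairOf p M B (Subgroup.zpowers x) b then
        lamVal M p P e l x ⟨_, b⟩ * secH x (Cen (Subgroup.zpowers x)) b χ s else 0 := by
  have := Fintype.ofFinite {b : Set (IrrCharacter (Cen (Subgroup.zpowers x))) // IsPBlock M b}
  let coef : {b : Set (IrrCharacter (Cen (Subgroup.zpowers x))) // IsPBlock M b} → ℂ := fun b' =>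
    if IsBrauerPairOf p M B (Subgroup.zpowers x) b'.1 then lamVal M p P e l x ⟨_, b'.1⟩ else 0
  have hreg : ∀ c : (Cen (Subgroup.zpowers x)), ¬ p ∣ orderOf c →
      star M p B P e l χ (x * (c : G)) = ∑ b' : {b : Set (IrrCharacter (Cen (Subgroup.zpowers x))) // IsPBlock M b},
        coef b' * secH x (Cen (Subgroup.zpowers x)) b'.1 χ c := by
    intro c hc
    rw [star_mul hx (by rwa [Subgroup.orderOf_coe])
      (Subgroup.mem_centralizer_iff.mp c.2 x (Subgroup.mem_zpowers x)), starAt]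
    simp only [coef, ite_mul, zero_mul, ← Finset.sum_filter]
    symm
    refine Finset.sum_bij (fun b _ => (⟨Subgroup.zpowers x, b.1⟩ : BrauerPairIdx G)) (fun b hb => ?_)
      (fun b _ b' _ h => Subtype.ext (eq_of_heq (Sigma.mk.injEq .. ▸ h).2)) ?_ ?_
    · exact mem_pairsAt.mpr ⟨rfl, (Finset.mem_filter.mp hb).2⟩
    · rintro ⟨Q, f⟩ hf
      obtain ⟨hQ, hf'⟩ := mem_pairsAt.mp hf
      obtain rfl : Q = Subgroup.zpowers x := hQ
      exact ⟨⟨f, hf'.1.2⟩, Finset.mem_filter.mpr ⟨Finset.mem_univ _, hf'⟩, rfl⟩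
    · intro b' _
      rw [secG, dif_pos (show (c : G) ∈ Cen (Subgroup.zpowers x) from c.2)]
  rw [blockPart_congr_regular hM hb hs hreg]
  have hlin : blockPart b (fun c : (Cen (Subgroup.zpowers x)) => ∑ b' : {b : Set (IrrCharacter (Cen (Subgroup.zpowers x))) // IsPBlock M b},
      coef b' * secH x (Cen (Subgroup.zpowers x)) b'.1 χ c) s =
      ∑ b' : {b : Set (IrrCharacter (Cen (Subgroup.zpowers x))) // IsPBlock M b}, coef b' * blockPart b (secH x (Cen (Subgroup.zpowers x)) b'.1 χ) s := by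
    simp only [blockPart_eq_sum, Finset.sum_mul]
    rw [Finset.sum_comm, Finset.mul_sum]
    refine Finset.sum_congr rfl fun b' _ => ?_
    rw [mul_left_comm (coef b'), Finset.mul_sum (a := coef b')]
    exact congrArg _ (Finset.sum_congr rfl fun c _ => mul_assoc _ _ _)
  rw [hlin, Finset.sum_eq_single ⟨b, hb⟩]
  · simp only [coef, secH, blockPart_blockPart hb hb, if_true, ite_mul, zero_mul]
  · intro b' _ hne
    simp only [secH, blockPart_blockPart hb b'.2, if_neg (show ¬ b = b'.1 from fun h => hne (Subtype.ext h.symm)),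
      mul_zero]
  · exact fun h => absurd (Finset.mem_univ _) h

end CfsgLib.Star
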