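import Cfsg.Agent.Lib.Star.Prim
import Cfsg.Agent.Lib.NilBlock.LocalIdem

/-!
# The pair of a primitive idempotent

`exists_pair_of_prim`: if a primitive idempotent `i` commuting with `Q` has nonzero Brauer image at
`Q`, there is a pair `(Q, f)` with `br_R i` inside the block of the pair on `R` below it for all `R ≤ Q`.
-/

set_option autoImplicit false

noncomputable section

namespace CfsgLib.Star

open Cfsg CfsgLib.Blocks CfsgLib.BrauerPairs CfsgLib.NilBlock

attribute [local instance] CfsgLib.Blocks.resField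

universe u

variable {M : Ideal AlgInt} [M.IsMaximal] {G : Type u} [Group G] [Fintype G] {p : ℕ} [hp : Fact p.Prime]

open Classical in
omit hp in
/-- The block idempotents of `C(Q)` add up to one. -/
theorem sum_gidem_cen (Q : Subgroup G) [Fintype {f : Set (IrrCharacter (Cen Q)) // IsPBlock M f}] :
    ∑ f : {f : Set (IrrCharacter (Cen Q)) // IsPBlock M f}, gidem M (Cen Q) f.1 = 1 := by
  set s := ∑ f : {f : Set (IrrCharacter (Cen Q)) // IsPBlock M f}, gidem M (Cen Q) f.1 with hs
  have hmulg : ∀ f : {f : Set (IrrCharacter (Cen Q)) // IsPBlock M f},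
      s * gidem M (Cen Q) f.1 = gidem M (Cen Q) f.1 := fun f => by
    rw [hs, Finset.sum_mul, Finset.sum_eq_single f (fun g _ hg =>
      gidem_mul_of_ne g.2 f.2 fun h => hg (Subtype.ext h))
      (fun h => absurd (Finset.mem_univ f) h), gidem_mul_self f.2]
  have hss : s * s = s := by conv_lhs => arg 2; rw [hs]
                             rw [Finset.mul_sum, Finset.sum_congr rfl fun f _ => hmulg f]
  by_contra hne
  have hc : CentralIn (Cen Q) (1 - s) := by
    refine ⟨fun g hg => ?_, fun v hv => ?_⟩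
    · rw [MonoidAlgebra.coeff_sub, Finsupp.sub_apply, hs, MonoidAlgebra.coeff_sum, Finsupp.finsetSum_apply,
        Finset.sum_eq_zero fun f _ => (centralIn_gidem f.1).1 g hg, sub_zero]
      have : g ≠ 1 := fun h => hg (h ▸ one_mem _)
      simp [MonoidAlgebra.one_def, Ne.symm this]
    · rw [map_sub, map_one, hs, map_sum]
      congr 1
      exact Finset.sum_congr rfl fun f _ => (centralIn_gidem f.1).2 v hv
  obtain ⟨f, hf, hocc⟩ := exists_occurs' hc
    (by rw [sub_mul, one_mul, mul_sub, mul_one, hss, sub_self, sub_zero]) (sub_ne_zero.mpr (Ne.symm hne))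
  rw [sub_mul, one_mul, hmulg ⟨f, hf⟩, sub_self] at hocc
  exact gidem_ne_zero hf hocc.symm

theorem br_add (P : Subgroup G) (a b : KG M G) : br P (a + b) = br P a + br P b :=
  ext_coeff fun g => by
    simp only [coeff_br, MonoidAlgebra.coeff_add, Finsupp.add_apply]; split_ifs <;> simp

theorem br_smul (P : Subgroup G) (z : Res M) (a : KG M G) : br P (z • a) = z • br P a :=
  ext_coeff fun g => by
    simp only [coeff_br, MonoidAlgebra.coeff_smul, Finsupp.smul_apply, smul_eq_mul]; split_ifs <;> simp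

theorem eq_zero_of_idem_nilpotent {R : Type*} [Ring R] {e : R} (he : e * e = e) (h : IsNilpotent e) : e = 0 := by
  obtain ⟨n, hn⟩ := h
  have : ∀ m : ℕ, e ^ (m + 1) = e := fun m => by
    induction m with
    | zero => exact pow_one e
    | succ m ih => rw [pow_succ, ih, he]
  rw [← this n, pow_succ, hn, zero_mul]

theorem isNilpotent_br (hM : IsPModular p M) {Q : Subgroup G} (hQ : IsPGroup p Q) {a : KG M G}
    (ha : IsFixed Q a) (hn : IsNilpotent a) : IsNilpotent (br Q a) := by
  obtain ⟨n, hn⟩ := hn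
  refine ⟨n, ?_⟩
  have hpow : ∀ m : ℕ, br Q (a ^ m) = br Q a ^ m ∧ IsFixed Q (a ^ m) := fun m => by
    induction m with
    | zero => rw [pow_zero, pow_zero]; exact ⟨br_one Q, isFixed_one Q⟩
    | succ m ih => rw [pow_succ, pow_succ]; exact ⟨by rw [br_mul hM hQ ih.2 ha, ih.1], ih.2.mul ha⟩
  rw [← (hpow n).1, hn, br_zero]

variable [IsAlgClosed (Res M)]

/-- The Brauer image of a corner element at the top. -/
theorem exists_top_scal (hM : IsPModular p M) {Q : Subgroup G} (hQ : IsPGroup p Q) {y : KG M G}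
    (hy : Prim (fixSub M Q) y) {a : KG M G} (ha : IsFixed Q a) :
    ∃ z : Res M, IsNilpotent (y * a * y - z • y) ∧
      IsNilpotent (br Q y * br Q a * br Q y - z • br Q y) := by
  have hc := InCor.of_mul hy.idem hy.mem ha
  obtain ⟨z, hz⟩ := hy.exists_scal hc
  refine ⟨z, hz, ?_⟩
  have h := isNilpotent_br hM hQ (a := y * a * y - z • y)
    ((fixSub M Q).sub_mem hc.mem ((fixSub M Q).smul_mem hy.mem z)) hz
  convert h using 1
  have h1 : br Q (y * a * y - z • y) + br Q (z • y) = br Q (y * a * y) := by rw [← br_add, sub_add_cancel]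
  rw [br_smul, br_mul hM hQ (IsFixed.mul hy.mem ha) hy.mem, br_mul hM hQ hy.mem ha] at h1
  exact (eq_sub_of_add_eq h1).symm

/-- **The pair of a primitive idempotent.** -/
theorem exists_pair_of_prim (hM : IsPModular p M) {Q : Subgroup G} (hQ : IsPGroup p Q) {i : LA M G}
    (hi : PrimLA Q i) (hne : br Q (redLA M G i) ≠ 0) :
    ∃ f : Set (IrrCharacter (Cen Q)), IsBrauerPair p M Q f ∧
      ∀ (R : Subgroup G) (g : Set (IrrCharacter (Cen R))), SubpairLE p M R g Q f →
        br R (redLA M G i) * pid M ⟨R, g⟩ = br R (redLA M G i) := by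
  classical
  obtain ⟨y, hy⟩ : ∃ y, y = redLA M G i := ⟨_, rfl⟩
  have hP := hi.red hM
  rw [← hy] at hP hne ⊢
  have hyy := hP.idem
  have hyfix : IsFixed Q y := hP.mem
  have hy0 : br Q y * br Q y = br Q y := by rw [← br_mul hM hQ hyfix hyfix, hyy]
  have := Fintype.ofFinite {f : Set (IrrCharacter (Cen Q)) // IsPBlock M f}
  obtain ⟨⟨f, hf⟩, hfne⟩ : ∃ f : {f : Set (IrrCharacter (Cen Q)) // IsPBlock M f},
      br Q y * gidem M (Cen Q) f.1 ≠ 0 := by
    by_contra! h
    apply hne
    rw [← mul_one (br Q y), ← sum_gidem_cen Q, Finset.mul_sum]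
    exact Finset.sum_eq_zero fun f _ => h f
  have hsuppy : ∀ (R : Subgroup G) (g : G), g ∉ Cen R → (br R y).coeff g = 0 := fun R g hg => by
    rw [coeff_br, if_neg hg]
  have htop : br Q y * gidem M (Cen Q) f = br Q y := by
    obtain ⟨z, -, hz⟩ := exists_top_scal hM hQ hP (isFixed_self (M := M) f)
    rw [br_eq_self (centralIn_gidem f).1] at hz
    have hc := (centralIn_gidem (M := M) f).commute_of_supp (hsuppy Q)
    set e := br Q y * gidem M (Cen Q) f with he
    have he1 : e * br Q y = e := by rw [he, mul_assoc, hc, ← mul_assoc, hy0]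
    have hye : br Q y * e = e := by rw [he, ← mul_assoc, hy0]
    have hee : e * e = e := by rw [he, ← mul_assoc, ← he, he1, he, mul_assoc, gidem_mul_self hf]
    rw [he1] at hz
    by_cases hz0 : z = 0
    · rw [hz0, zero_smul, sub_zero] at hz
      exact absurd (eq_zero_of_idem_nilpotent hee hz) hfne
    · have hd : (br Q y - e) * (br Q y - e) = br Q y - e := by
        rw [sub_mul, mul_sub, mul_sub, hy0, hye, he1, hee]; abel
      have hmul : (e - z • br Q y) * (br Q y - e) = (-z) • (br Q y - e) := by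
        rw [sub_mul, mul_sub e, mul_sub (z • br Q y), he1, hee, smul_mul_assoc, smul_mul_assoc, hy0, hye,
          neg_smul, smul_sub]
        abel
      have hcom : Commute (e - z • br Q y) (br Q y - e) := by
        show _ * _ = (br Q y - e) * (e - z • br Q y)
        rw [hmul, mul_sub, sub_mul, sub_mul, hye, hee, mul_smul_comm, mul_smul_comm, hy0, he1, neg_smul,
          smul_sub]
        abel
      have h1 := hcom.isNilpotent_mul_right hz
      rw [hmul] at h1
      obtain ⟨n, hn⟩ := h1
      rw [smul_pow] at hn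
      have hpow := (smul_eq_zero.mp hn).resolve_left (pow_ne_zero _ (neg_ne_zero.mpr hz0))
      exact (sub_eq_zero.mp (eq_zero_of_idem_nilpotent hd ⟨n, hpow⟩)).symm
  refine ⟨f, ⟨hQ, hf⟩, fun R g hg => ?_⟩
  have hQP : IsBrauerPair p M Q f := ⟨hQ, hf⟩
  choose F hF using fun (R : Subgroup G) (hR : R ≤ Q) => (existsUnique_subpair hM hR hQP).exists
  let E : Subgroup G → KG M G := fun R => if h : R ≤ Q then pid M ⟨R, F R h⟩ else 0
  have hE : ∀ (R : Subgroup G) (g : Set (IrrCharacter (Cen R))), SubpairLE p M R g Q f →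
      E R = pid M ⟨R, g⟩ := fun R g hg => by
    have hR : R ≤ Q := subgroup_le (a := ⟨R, g⟩) (b := ⟨Q, f⟩) hg
    simp only [E, dif_pos hR, subpair_eq hM hQP (hF R hR) hg]
  have hEe : ∀ R, (hR : R ≤ Q) → IsBrauerPair p M R (F R hR) := fun R hR =>
    isBrauerPair_left (a := ⟨R, F R hR⟩) (b := ⟨Q, f⟩) (hF R hR) hQP
  rw [← hE R g hg]
  have hRQ : R ≤ Q := subgroup_le (a := ⟨R, g⟩) (b := ⟨Q, f⟩) hg
  clear hg g
  induction hn : Nat.card Q - Nat.card R using Nat.strong_induction_on generalizing R with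
  | _ n ih =>
    rcases hRQ.eq_or_lt with rfl | hlt
    · rw [hE R f .refl]; exact htop
    have hEc : CentralIn (Cen R) (E R) := by simp only [E, dif_pos hRQ]; exact centralIn_gidem _
    have hEE : E R * E R = E R := by simp only [E, dif_pos hRQ]; exact gidem_mul_self (hEe R hRQ).2
    have hRp : IsPGroup p R := hQ.to_le hRQ
    have hcomm := hEc.commute_of_supp (hsuppy R)
    have hbr : br R y * br R y = br R y := by
      rw [← br_mul hM hRp (hyfix.mono hRQ) (hyfix.mono hRQ), hyy]
    obtain ⟨y1, hy1⟩ : ∃ y1, y1 = br R y - br R y * E R := ⟨_, rfl⟩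
    suffices h0 : y1 = 0 by rw [hy1, sub_eq_zero] at h0; exact h0.symm
    have hy1supp : ∀ g, g ∉ Cen R → y1.coeff g = 0 := fun g hg => by
      rw [hy1, MonoidAlgebra.coeff_sub, Finsupp.sub_apply, hsuppy R g hg,
        supp_mul (hsuppy R) hEc.1 hg, sub_zero]
    have hy1y : br R y * y1 = y1 := by rw [hy1, mul_sub, hbr, ← mul_assoc, hbr]
    have hy1y' : y1 * br R y = y1 := by
      rw [hy1, sub_mul, hbr, mul_assoc, hcomm, ← mul_assoc, hbr]
    have hy11 : y1 * y1 = y1 := by
      conv_lhs => arg 2; rw [hy1]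
      rw [mul_sub, hy1y', ← mul_assoc, hy1y', hy1, sub_mul, mul_assoc, hEE, sub_self, sub_zero]
    let D : G → Subgroup G := fun g => Q ⊓ Subgroup.centralizer ({g} : Set G)
    have hDg : ∀ g : G, g ∈ Cen (D g) := fun g => Subgroup.mem_centralizer_iff.mpr fun q hq =>
      Subgroup.mem_centralizer_singleton_iff.mp hq.2
    have hgD : ∀ {g : G}, g ∈ Cen R → R ≤ D g := fun {g} hg q hq =>
      ⟨hRQ hq, Subgroup.mem_centralizer_singleton_iff.mpr (Subgroup.mem_centralizer_iff.mp hg q hq)⟩
    have hmap : ∀ v ∈ Q, ∀ g, D (v * g * v⁻¹) = (D g).map (MulAut.conj v).toMonoidHom := by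
      intro v hv g
      ext w
      constructor
      · rintro ⟨hw, hwc⟩
        refine ⟨v⁻¹ * w * v, ⟨Q.mul_mem (Q.mul_mem (Q.inv_mem hv) hw) hv,
          Subgroup.mem_centralizer_singleton_iff.mpr ?_⟩, by simp [mul_assoc]⟩
        have h := Subgroup.mem_centralizer_singleton_iff.mp hwc
        calc v⁻¹ * w * v * g = v⁻¹ * (w * (v * g * v⁻¹)) * v := by group
          _ = g * (v⁻¹ * w * v) := by rw [h]; group
      · rintro ⟨z, ⟨hz, hzc⟩, rfl⟩
        refine ⟨Q.mul_mem (Q.mul_mem hv hz) (Q.inv_mem hv), Subgroup.mem_centralizer_singleton_iff.mpr ?_⟩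
        show v * z * v⁻¹ * (v * g * v⁻¹) = v * g * v⁻¹ * (v * z * v⁻¹)
        calc v * z * v⁻¹ * (v * g * v⁻¹) = v * (z * g) * v⁻¹ := by group
          _ = _ := by rw [Subgroup.mem_centralizer_singleton_iff.mp hzc]; group
    have hEfix : ∀ R', R ≤ R' → (hR' : R' ≤ Q) → R' ≤ Subgroup.normalizer (R : Set G) →
        IsFixed R' (E R) ∧ br R' (E R) * E R' = E R' := by
      intro R' hRR' hR' hN
      have hn : NormalSubpairRel p M ⟨R, F R hRQ⟩ ⟨R', F R' hR'⟩ :=
        normal_of_subpair hM (hEe R' hR') (subpair_of_le hM hQP hRR' (hF R hRQ) (hF R' hR')) hN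
      obtain ⟨-, -, -, -, hfix, hocc⟩ := (normalSubpair_iff hM).mp hn
      simp only [E, dif_pos hRQ, dif_pos hR']
      exact ⟨hfix, hocc⟩
    -- `y1` lives on the elements with stabiliser `R`
    have hvan : ∀ g, D g ≠ R → y1.coeff g = 0 := by
      intro g hg
      by_cases hgc : g ∈ Cen R
      swap
      · exact hy1supp g hgc
      have hltD : R < D g := lt_of_le_of_ne (hgD hgc) (Ne.symm hg)
      set R' := D g ⊓ Subgroup.normalizer (R : Set G) with hR'
      have hRR' : R < R' := exists_normalizer_gt (hQ.to_le inf_le_left) hltD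
      have hR'Q : R' ≤ Q := inf_le_left.trans inf_le_left
      obtain ⟨hfix, hocc⟩ := hEfix R' hRR'.le hR'Q inf_le_right
      have hgR' : g ∈ Subgroup.centralizer (R' : Set G) := centralizer_anti inf_le_left (hDg g)
      have hlt' := card_lt_card_of_lt hRR'
      have hR'le := Subgroup.card_le_of_le hR'Q
      have hIH := ih _ (by omega) R' hR'Q rfl
      have h1 : br R' (br R y * E R) = br R' y := by
        rw [br_mul hM (hQ.to_le hR'Q) ((hyfix.mono hR'Q).br inf_le_right) hfix, br_br hRR'.le]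
        have hE' : CentralIn (Cen R') (E R') := by simp only [E, dif_pos hR'Q]; exact centralIn_gidem _
        have hcomm : br R' (E R) * E R' = E R' * br R' (E R) :=
          (centralIn_br (hEc.2.mono (centralizer_anti hRR'.le))).commute_of_supp hE'.1
        conv_lhs => rw [← hIH, mul_assoc, ← hcomm, hocc]
        exact hIH
      have h2 := congrArg (fun z : KG M G => z.coeff g) h1
      simp only [coeff_br, if_pos hgR'] at h2
      rw [hy1, MonoidAlgebra.coeff_sub, Finsupp.sub_apply, h2, coeff_br, if_pos hgc, sub_self]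
    obtain ⟨hTfix, -⟩ := hEfix (Q ⊓ Subgroup.normalizer (R : Set G))
      (le_inf hRQ Subgroup.le_normalizer) inf_le_left inf_le_right
    have hy1fix : IsFixed (Q ⊓ Subgroup.normalizer (R : Set G)) y1 := by
      rw [hy1]
      intro v hv
      rw [map_sub, map_mul, ((hyfix.mono inf_le_left).br inf_le_right) v hv, hTfix v hv]
    -- the extension
    let a : KG M G := ofFun fun h =>
      if hh : ∃ x : G, x ∈ Q ∧ D (x * h * x⁻¹) = R then y1.coeff (hh.choose * h * hh.choose⁻¹) else 0
    have hwd : ∀ h x : G, x ∈ Q → D (x * h * x⁻¹) = R → a.coeff h = y1.coeff (x * h * x⁻¹) := by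
      intro h x hx hD
      have hh : ∃ x : G, x ∈ Q ∧ D (x * h * x⁻¹) = R := ⟨x, hx, hD⟩
      simp only [a, coeff_ofFun, dif_pos hh]
      obtain ⟨hx', hD'⟩ := hh.choose_spec
      set x' := hh.choose
      have ht : x' * x⁻¹ ∈ Q ⊓ Subgroup.normalizer (R : Set G) := by
        have hm : x' * x⁻¹ ∈ Q := Q.mul_mem hx' (Q.inv_mem hx)
        refine ⟨hm, ?_⟩
        show x' * x⁻¹ ∈ Subgroup.normalizer (R : Set G)
        rw [Subgroup.mem_normalizer_iff_map_conj_eq]
        show R.map (MulAut.conj (x' * x⁻¹)).toMonoidHom = R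
        conv_lhs => rw [← hD, ← hmap _ hm]
        rw [← hD']
        congr 1
        group
      rw [← isFixed_iff.mp hy1fix _ ht (x * h * x⁻¹)]
      congr 1
      group
    have hafix : IsFixed Q a := by
      refine isFixed_iff.mpr fun v hv h => ?_
      by_cases hh : ∃ x : G, x ∈ Q ∧ D (x * h * x⁻¹) = R
      · obtain ⟨x, hx, hD⟩ := hh
        have e1 : x * v⁻¹ * (v * h * v⁻¹) * (x * v⁻¹)⁻¹ = x * h * x⁻¹ := by group
        rw [hwd h x hx hD, hwd (v * h * v⁻¹) (x * v⁻¹) (Q.mul_mem hx (Q.inv_mem hv)) (by rw [e1, hD]), e1]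
      · have hh' : ¬ ∃ x : G, x ∈ Q ∧ D (x * (v * h * v⁻¹) * x⁻¹) = R := by
          rintro ⟨x, hx, hD⟩
          exact hh ⟨x * v, Q.mul_mem hx hv, by rw [← hD]; congr 1; group⟩
        simp only [a, coeff_ofFun, dif_neg hh, dif_neg hh']
    have hbrR : br R a = y1 := by
      refine ext_coeff fun h => ?_
      rw [coeff_br]
      split_ifs with hc
      · by_cases hh : ∃ x : G, x ∈ Q ∧ D (x * h * x⁻¹) = R
        · obtain ⟨x, hx, hD⟩ := hh
          have hDh : D h = R := by
            refine ((hgD hc).eq_or_lt).elim Eq.symm fun hlt2 => ?_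
            have h1 := card_lt_card_of_lt hlt2
            rw [hmap x hx] at hD
            rw [← hD, Subgroup.card_map_of_injective (MulEquiv.injective _)] at h1
            exact absurd h1 (lt_irrefl _)
          have e1 : (1 : G) * h * (1 : G)⁻¹ = h := by group
          rw [hwd h 1 (one_mem _) (by rw [e1, hDh]), e1]
        · simp only [a, coeff_ofFun, dif_neg hh]
          refine (hvan h fun hD => hh ⟨1, one_mem _, ?_⟩).symm
          rw [← hD]; congr 1; group
      · exact (hy1supp h hc).symm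
    have hbrQ : br Q a = 0 := by
      refine ext_coeff fun h => ?_
      rw [coeff_br]
      split_ifs with hc
      · simp only [a, coeff_ofFun]
        rw [dif_neg]
        · simp
        · rintro ⟨x, hx, hD⟩
          refine hlt.ne (hD.symm.trans (le_antisymm inf_le_left fun q hq => ⟨hq, ?_⟩))
          have hcx : x * h * x⁻¹ = h := by
            rw [Subgroup.mem_centralizer_iff.mp hc x hx, mul_inv_cancel_right]
          rw [hcx]
          exact Subgroup.mem_centralizer_singleton_iff.mpr (Subgroup.mem_centralizer_iff.mp hc q hq)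
      · simp
    obtain ⟨z, hz, hzQ⟩ := exists_top_scal hM hQ hP hafix
    rw [hbrQ, mul_zero, zero_mul, zero_sub] at hzQ
    have hz0 : z = 0 := by
      by_contra h0
      obtain ⟨n, hn⟩ := hzQ
      rw [← neg_smul, smul_pow] at hn
      exact hne (eq_zero_of_idem_nilpotent hy0
        ⟨n, (smul_eq_zero.mp hn).resolve_left (pow_ne_zero _ (neg_ne_zero.mpr h0))⟩)
    rw [hz0, zero_smul, sub_zero] at hz
    have h2 := isNilpotent_br hM hRp (((hyfix.mul hafix).mul hyfix).mono hRQ) hz
    rw [br_mul hM hRp ((hyfix.mul hafix).mono hRQ) (hyfix.mono hRQ),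
      br_mul hM hRp (hyfix.mono hRQ) (hafix.mono hRQ), hbrR, hy1y, hy1y'] at h2
    exact eq_zero_of_idem_nilpotent hy11 h2

end CfsgLib.Star
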