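import Cfsg.Agent.Lib.Star.Def
import Cfsg.Agent.Lib.Star.PointPair
import Cfsg.Agent.Lib.NilBlock.RingP
import Cfsg.Agent.Lib.Char.Extension

/-!
# The twist on primitive idempotents

* `gl`: `v ↦ f(v i)` on a subgroup;
* `Twist.gl_mem_top`: for a primitive idempotent with nonzero Brauer image, the twist multiplies this
  function by a linear character.
-/

set_option autoImplicit false

noncomputable section

namespace CfsgLib.Star

open Cfsg CfsgLib.Blocks CfsgLib.BlockArith CfsgLib.Char CfsgLib.BrauerPairs CfsgLib.NilBlock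
open scoped ComplexConjugate Classical

attribute [local instance] CfsgLib.Blocks.resField

universe u

variable {G : Type u} [Group G] [Fintype G] {M : Ideal AlgInt} [M.IsMaximal] {p : ℕ} [hp : Fact p.Prime]
  {B : Set (IrrCharacter G)} {P : Subgroup G} {e : Set (IrrCharacter (Cen P))} {l : P →* ℂˣ}

/-- `v ↦ f(v i)` on `Q`. -/
def gl (f : G → ℂ) (Q : Subgroup G) (i : LA M G) : Q → ℂ := fun v =>
  charLin f (toCA M G (MonoidAlgebra.single (v : G) 1 * i))

omit hp in
theorem toCA_single (g : G) :
    toCA M G (MonoidAlgebra.single g 1) = MonoidAlgebra.single g 1 := by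
  simp [toCA]

omit hp in
theorem isCharacter_gl {χ : G → ℂ} (hχ : IsCharacter G χ) {Q : Subgroup G} {i : LA M G} (hi : i * i = i)
    (hiQ : Inv Q i) : IsCharacter Q (gl χ Q i) := by
  have h := isCharacter_idem hχ (i := toCA M G i) (by rw [← map_mul, hi]) (S := Q) fun v hv => by
    rw [← toCA_single (M := M) v]; exact (hiQ v hv).map (toCA M G)
  convert h using 1
  funext v
  simp only [gl, map_mul, toCA_single]

omit hp in
theorem gl_sum (f : G → ℂ) (Q : Subgroup G) {ι : Type*} (s : Finset ι) (i : ι → LA M G) :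
    gl f Q (∑ k ∈ s, i k) = ∑ k ∈ s, gl f Q (i k) := by
  funext v
  simp only [gl, Finset.mul_sum, map_sum, Finset.sum_apply]

/-- Where the Brauer image meets only blocks with one weight, so does the value. -/
theorem charLin_star_eq (hM : IsPModular p M) {χ : IrrCharacter G} {u : G}
    (hu : ∃ k : ℕ, orderOf u = p ^ k) {i : LA M G} (hi : i * i = i)
    (hiu : Commute i (MonoidAlgebra.single u 1))
    (hcl : IsClassFunction G (star M p B P e l χ)) {c : ℂ}
    (hc : ∀ b : Set (IrrCharacter (Cen (Subgroup.zpowers u))), IsPBlock M b →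
      br (Subgroup.zpowers u) (redLA M G i) * gidem M (Cen (Subgroup.zpowers u)) b ≠ 0 →
        (if IsBrauerPairOf p M B (Subgroup.zpowers u) b then lamVal M p P e l u ⟨_, b⟩ else 0) = c) :
    charLin (star M p B P e l χ) (toCA M G (MonoidAlgebra.single u 1 * i)) =
      c * charLin (χ : G → ℂ) (toCA M G (MonoidAlgebra.single u 1 * i)) := by
  set Z := Subgroup.zpowers u with hZ
  have hQ : IsPGroup p Z := isPGroup_zpowers hu
  obtain ⟨y, hy⟩ : ∃ y, y = br Z (redLA M G i) := ⟨_, rfl⟩
  have hyy : y * y = y := by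
    rw [hy, ← br_mul hM hQ (isFixed_redLA hiu) (isFixed_redLA hiu), ← map_mul, hi]
  obtain ⟨x', hx'⟩ : ∃ x' : KG M (Cen Z), emb (Cen Z) x' = y := by
    refine ⟨ofFun fun c => y.coeff (c : G), ext_coeff fun g => ?_⟩
    by_cases hg : g ∈ Cen Z
    · rw [show g = ((⟨g, hg⟩ : Cen Z) : G) from rfl, coeff_emb, coeff_ofFun]
    · rw [coeff_emb_of_notMem _ _ hg, hy, coeff_br, if_neg hg]
  have hxx : x' * x' = x' := emb_injective _ (by rw [map_mul, hx', hyy])
  obtain ⟨j, b, hab, -, hjj, -, -, -, m, hm⟩ := exists_spectral hM (liftLA M x')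
  have hjred : x' = redLA M _ j := by
    refine eq_of_spectral (y := redLA M _ b) ?_ (m := m) ?_ hxx
    · have h := congrArg (redLA M _) hab
      rwa [map_mul, redLA_liftLA] at h
    · rw [map_mul, map_pow, map_sub, map_one, redLA_liftLA] at hm
      exact hm
  have := Fintype.ofFinite {b : Set (IrrCharacter (Cen Z)) // IsPBlock M b}
  -- the value as a sum over blocks
  have hval : ∀ f : G → ℂ, IsClassFunction G f → charLin f (toCA M G (MonoidAlgebra.single u 1 * i)) =
      ∑ b : {b : Set (IrrCharacter (Cen Z)) // IsPBlock M b}, ∑ k : Cen Z, if p ∣ orderOf k then 0 else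
        (j.coeff k : ℂ) * blockPart b.1 (fun c : Cen Z => f (u * c)) k := by
    intro f hf
    rw [charLin_single_mul_transfer hM hu hf hi hiu hjj (by rw [← hjred, hx', hy])]
    have huH : u ∈ Cen Z := mem_cen_zpowers.mpr (Commute.refl u)
    have hs : MonoidAlgebra.single u 1 * incl (Cen Z) j =
        incl (Cen Z) (MonoidAlgebra.single (⟨u, huH⟩ : Cen Z) 1 * j) := by
      rw [map_mul]
      congr 1
      simp [incl, MonoidAlgebra.mapDomainRingHom, MonoidAlgebra.mapDomain_single]
    rw [hs, toCA_incl_charLin]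
    rw [Fintype.sum_equiv (Equiv.mulLeft (⟨u, huH⟩ : Cen Z))⁻¹ _ (fun k => (j.coeff k : ℂ) * f (u * k))
      fun k => by simp [MonoidAlgebra.coeff_single_mul_apply]]
    have hclass : IsClassFunction (Cen Z) fun c : Cen Z => f (u * c) := by
      intro c d
      show f (u * ((d : G) * c * (d : G)⁻¹)) = f (u * c)
      rw [← hf (u * c) (d : G)]
      congr 1
      have hd := (mem_cen_zpowers.mp d.2).eq
      simp only [← mul_assoc, hd]
    rw [sum_regular hM hjj hclass, Finset.sum_comm]
    refine Finset.sum_congr rfl fun k _ => ?_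
    by_cases hk : p ∣ orderOf k
    · simp [hk]
    · simp only [if_neg hk, ← Finset.mul_sum, sum_blockPart hclass k]
  have hzero : ∀ (b : {b : Set (IrrCharacter (Cen Z)) // IsPBlock M b}),
      y * gidem M (Cen Z) b.1 = 0 → ∀ F : Cen Z → ℂ,
        (∑ k : Cen Z, if p ∣ orderOf k then 0 else (j.coeff k : ℂ) * blockPart b.1 F k) = 0 := by
    intro b hb F
    have h0 : redLA M _ j * ridem b.2 = 0 := emb_injective _ (by
      rw [← hjred, map_mul, map_zero, hx', ← gidem_eq_emb b.2]; exact hb)
    rw [← sum_regular hM hjj (f := fun k => blockPart b.1 F k) (fun c d => by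
      show blockPart b.1 F (d * c * d⁻¹) = blockPart b.1 F c
      rw [blockPart_apply, blockPart_apply]
      exact Finset.sum_congr rfl fun φ _ => by rw [isClassFunction_of_isIrr φ.2 c d])]
    simp only [blockPart_apply, Finset.mul_sum]
    rw [Finset.sum_comm]
    refine Finset.sum_eq_zero fun φ _ => ?_
    by_cases hφ : φ ∈ b.1
    · simp only [if_pos hφ]
      have h1 := charLin_eq_zero_of_missing hjj b.2 h0 hφ
      rw [charLin_apply] at h1
      simp only [coeff_toCA] at h1
      rw [Finset.sum_congr rfl (g := fun k => classInner F (φ : Cen Z → ℂ) *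
        ((j.coeff k : ℂ) * (φ : Cen Z → ℂ) k)) fun k _ => by ring, ← Finset.mul_sum, h1, mul_zero]
    · simp [hφ]
  rw [hval _ hcl, hval _ (isClassFunction_of_isIrr χ.2), Finset.mul_sum]
  refine Finset.sum_congr rfl fun b _ => ?_
  by_cases hb : y * gidem M (Cen Z) b.1 = 0
  · rw [hzero b hb, hzero b hb, mul_zero]
  · rw [Finset.mul_sum]
    refine Finset.sum_congr rfl fun k _ => ?_
    split_ifs with hk
    · rw [mul_zero]
    · rw [blockPart_star hM hu b.2 hk, ← hc b.1 b.2 (hy ▸ hb)]
      show _ = _ * ((j.coeff k : ℂ) * secH u (Cen Z) b.1 χ k)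
      split_ifs <;> ring

/-- A vanishing Brauer image kills the values. -/
theorem charLin_eq_zero_of_br (hM : IsPModular p M) {u : G} (hu : ∃ k : ℕ, orderOf u = p ^ k)
    {i : LA M G} (hi : i * i = i) (hiu : Commute i (MonoidAlgebra.single u 1))
    (h0 : br (Subgroup.zpowers u) (redLA M G i) = 0) {f : G → ℂ} (hf : IsClassFunction G f) :
    charLin f (toCA M G (MonoidAlgebra.single u 1 * i)) = 0 :=
  charLin_single_mul_eq_zero hM hu hf hi hiu fun g hg => by
    have := congrArg (fun z : KG M G => z.coeff g) h0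
    simpa [coeff_br, show g ∈ Subgroup.centralizer ((Subgroup.zpowers u : Subgroup G) : Set G) from
      mem_cen_zpowers.mpr hg] using this

variable [IsAlgClosed (Res M)]

/-- A primitive idempotent with nonzero Brauer image: the twist is a multiplication by a linear character. -/
theorem Twist.gl_mem_top (T : Twist M p B P e l) (χ : IrrCharacter G) {Q : Subgroup G} (hQ : IsPGroup p Q)
    {i : LA M G} (hi : PrimLA Q i) (hne : br Q (redLA M G i) ≠ 0) :
    gl (star M p B P e l χ) Q i ∈ pairingRing M Q := by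
  have hM := T.hM
  obtain ⟨f, hf, hfR⟩ := exists_pair_of_prim hM hQ hi hne
  have hcl := T.isClassFunction_star χ
  have hsub : ∀ v : Q, ∃ g, SubpairLE p M (Subgroup.zpowers (v : G)) g Q f := fun v =>
    (existsUnique_subpair hM (Subgroup.zpowers_le.mpr v.2) hf).exists
  choose g hg using hsub
  have honly : ∀ (v : Q) (b : Set (IrrCharacter (Cen (Subgroup.zpowers (v : G))))), IsPBlock M b →
      br (Subgroup.zpowers (v : G)) (redLA M G i) * gidem M (Cen (Subgroup.zpowers (v : G))) b ≠ 0 →
        b = g v := by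
    intro v b hb hb0
    by_contra hne'
    apply hb0
    have hgv := (isBrauerPair_left (a := ⟨_, g v⟩) (b := ⟨Q, f⟩) (hg v) hf).2
    rw [← hfR _ _ (hg v), mul_assoc, pid, gidem_mul_of_ne hgv hb (Ne.symm hne'), mul_zero]
  by_cases hBp : IsBrauerPairOf p M B Q f
  · obtain ⟨w, hw⟩ := exists_conj_le_maximal hM (a := ⟨Q, f⟩) (b := ⟨P, e⟩) T.hmax hBp
    have hmem : ∀ v : Q, w * (v : G) * w⁻¹ ∈ P := fun v => subgroup_le hw ⟨(v : G), v.2, rfl⟩
    let φ : Q →* ℂˣ := l.comp
      { toFun := fun v => ⟨w * (v : G) * w⁻¹, hmem v⟩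
        map_one' := Subtype.ext (by simp)
        map_mul' := fun a b => Subtype.ext (by simp [mul_assoc]) }
    have heq : gl (star M p B P e l χ) Q i = (fun v => (φ v : ℂ)) * gl (χ : G → ℂ) Q i := by
      funext v
      refine charLin_star_eq hM (exists_pow_of_mem hQ v.2) hi.idem (hi.inv v v.2) hcl fun b hb hb0 => ?_
      obtain rfl := honly v b hb hb0
      have hpo : IsBrauerPairOf p M B (Subgroup.zpowers (v : G)) (g v) :=
        (brauerPairOf_iff_of_subpair hM (a := ⟨_, g v⟩) (b := ⟨Q, f⟩) (hg v)).mp hBp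
      rw [if_pos hpo]
      exact T.lamVal_eq hpo.1 rfl (hmem v)
        ((subpair_cjPair hM w (a := ⟨_, g v⟩) (b := ⟨Q, f⟩) (hg v)).trans hw)
    rw [heq]
    exact Subring.mul_mem _ (char_mem_pairingRing (isCharacter_linFun φ).1)
      (char_mem_pairingRing (isCharacter_gl (isCharacter_of_isIrr χ.2) hi.idem hi.inv))
  · have heq : gl (star M p B P e l χ) Q i = 0 := by
      funext v
      refine (charLin_star_eq hM (exists_pow_of_mem hQ v.2) hi.idem (hi.inv v v.2) hcl (c := 0)
        fun b hb hb0 => ?_).trans (zero_mul _)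
      obtain rfl := honly v b hb hb0
      rw [if_neg fun hpo => hBp ((brauerPairOf_iff_of_subpair hM (a := ⟨_, g v⟩) (b := ⟨Q, f⟩) (hg v)).mpr hpo)]
    rw [heq]
    exact Subring.zero_mem _

end CfsgLib.Star
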