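import Cfsg.Agent.Lib.Star.Orbits

/-!
# An element of an abelian defect group fixed by the stabiliser

* `rankBelow_fixed`: the block of its centralizer below `(P, e)` has the rank of `B`;
* `card_fixed`: and the same number of irreducible characters.
-/

set_option autoImplicit false

noncomputable section

namespace CfsgLib.Star

open Cfsg CfsgLib.Blocks CfsgLib.BlockArith CfsgLib.Char CfsgLib.BrauerPairs CfsgLib.NilBlock
open scoped ComplexConjugate Classical

universe u

variable {G : Type u} [Group G] [Fintype G] {M : Ideal AlgInt} [M.IsMaximal] {p : ℕ} [hp : Fact p.Prime]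
  {B : Set (IrrCharacter G)} {P : Subgroup G} {e : Set (IrrCharacter (Cen P))}

omit [M.IsMaximal] hp [Fintype G] in
theorem zpowers_mul_sup {r u : G} :
    Subgroup.zpowers (r * u) ⊔ Subgroup.zpowers u = Subgroup.zpowers r ⊔ Subgroup.zpowers u := by
  refine le_antisymm (sup_le (Subgroup.zpowers_le.mpr ?_) le_sup_right) (sup_le (Subgroup.zpowers_le.mpr ?_) le_sup_right)
  · exact mul_mem (Subgroup.mem_sup_left (Subgroup.mem_zpowers r)) (Subgroup.mem_sup_right (Subgroup.mem_zpowers u))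
  · have h := mul_mem (Subgroup.mem_sup_left (T := Subgroup.zpowers u) (Subgroup.mem_zpowers (r * u)))
      (inv_mem (Subgroup.mem_sup_right (S := Subgroup.zpowers (r * u)) (Subgroup.mem_zpowers u)))
    rwa [mul_inv_cancel_right] at h

omit hp in
theorem OrbitReps.mulRight {R : Finset P} (hR : OrbitReps M P e R) {u : P}
    (hu : ∀ t ∈ stab M P e, t * (u : G) * t⁻¹ = u) : OrbitReps M P e (R.image (· * u)) := by
  refine ⟨fun y => ?_, ?_⟩
  · obtain ⟨r, hr, t, ht, htr⟩ := hR.rep (y * u⁻¹)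
    refine ⟨r * u, Finset.mem_image_of_mem _ hr, t, ht, ?_⟩
    rw [Subgroup.coe_mul, ← htr, Subgroup.coe_mul, Subgroup.coe_inv]
    calc t * (y : G) * t⁻¹ = t * ((y : G) * (u : G)⁻¹) * t⁻¹ * (t * (u : G) * t⁻¹) := by group
      _ = _ := by rw [hu t ht]
  · intro r hr r' hr' t ht h
    obtain ⟨a, ha, rfl⟩ := Finset.mem_image.mp hr
    obtain ⟨b, hb, rfl⟩ := Finset.mem_image.mp hr'
    rw [hR.uniq a ha b hb t ht ?_]
    rw [Subgroup.coe_mul, Subgroup.coe_mul] at h
    have h1 : t * (a : G) * t⁻¹ * (t * (u : G) * t⁻¹) = (b : G) * (u : G) := by rw [← h]; group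
    rw [hu t ht] at h1
    exact mul_right_cancel h1

omit [M.IsMaximal] hp [Fintype G] in
theorem commute_of_cen_top {r : G} (h : Cen (Subgroup.zpowers r) = ⊤) (t : G) : t * r * t⁻¹ = r := by
  have h1 : t ∈ Cen (Subgroup.zpowers r) := h ▸ Subgroup.mem_top t
  rw [← Subgroup.mem_centralizer_iff.mp h1 r (Subgroup.mem_zpowers r), mul_inv_cancel_right]

/-- A non-central step. -/
theorem rankBelow_sup_of_ih (hM : IsPModular p M) (hmax : IsMaximalBrauerPair p M B P e)
    (hab : ∀ x ∈ P, ∀ y ∈ P, x * y = y * x) {u : P} (hu : ∀ t ∈ stab M P e, t * (u : G) * t⁻¹ = u)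
    (r : P) [Fintype (Cen (Subgroup.zpowers (r : G)))]
    (IH : ∀ (B' : Set (IrrCharacter (Cen (Subgroup.zpowers (r : G)))))
      (P' : Subgroup (Cen (Subgroup.zpowers (r : G)))) (e' : Set (IrrCharacter (Cen P'))),
      IsMaximalBrauerPair p M B' P' e' → (∀ x ∈ P', ∀ y ∈ P', x * y = y * x) →
        ∀ u' : P', (∀ t ∈ stab M P' e', t * (u' : Cen (Subgroup.zpowers (r : G))) * t⁻¹ = u') →
          rankBelow M p P' e' (Subgroup.zpowers (u' : Cen (Subgroup.zpowers (r : G)))) = blockRank p B') :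
    rankBelow M p P e (Subgroup.zpowers (r : G)) =
      rankBelow M p P e (Subgroup.zpowers (r : G) ⊔ Subgroup.zpowers (u : G)) := by
  obtain ⟨f, hf, -⟩ := existsUnique_subpair hM (Subgroup.zpowers_le.mpr r.2) hmax.1.1
  obtain ⟨e', he', hst, -, hrk⟩ := exists_local_pair hM hmax hab hf
  have huH : (u : G) ∈ Cen (Subgroup.zpowers (r : G)) :=
    mem_cen_zpowers.mpr (hab u u.2 r r.2)
  have hu' : (⟨u, huH⟩ : Cen (Subgroup.zpowers (r : G))) ∈ P.subgroupOf (Cen (Subgroup.zpowers (r : G))) := u.2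
  have h := IH f _ e' he' (fun x hx y hy => Subtype.ext (hab (x : G) hx (y : G) hy)) ⟨_, hu'⟩
    fun t ht => Subtype.ext (by
      show (t : G) * (u : G) * (t : G)⁻¹ = u
      exact hu _ (hst t ht))
  rw [rankBelow_eq hM hmax.1.1 hf, ← h, hrk _ (Subgroup.zpowers_le.mpr hu'), MonoidHom.map_zpowers, sup_comm]
  rfl

/-- **The rank.** -/
theorem rankBelow_fixed (hM : IsPModular p M) (n : ℕ) :
    ∀ (G : Type u) [Group G] [Fintype G] (B : Set (IrrCharacter G)) (P : Subgroup G)
      (e : Set (IrrCharacter (Cen P))), Nat.card G = n → IsMaximalBrauerPair p M B P e →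
      (∀ x ∈ P, ∀ y ∈ P, x * y = y * x) → ∀ u : P, (∀ t ∈ stab M P e, t * (u : G) * t⁻¹ = u) →
        rankBelow M p P e (Subgroup.zpowers (u : G)) = blockRank p B := by
  induction n using Nat.strong_induction_on with
  | _ n ih =>
  intro G _ _ B P e hn hmax hab u hu
  have hlt : ∀ r : P, Cen (Subgroup.zpowers (r : G)) ≠ ⊤ →
      rankBelow M p P e (Subgroup.zpowers (r : G)) =
        rankBelow M p P e (Subgroup.zpowers (r : G) ⊔ Subgroup.zpowers (u : G)) := by
    intro r hr
    have := Fintype.ofFinite (Cen (Subgroup.zpowers (r : G)))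
    refine rankBelow_sup_of_ih hM hmax hab hu r fun B' P' e' h1 h2 u' h3 => ?_
    refine ih _ ?_ _ B' P' e' rfl h1 h2 u' h3
    rw [← hn]
    exact lt_of_le_of_ne (Subgroup.card_le_card_group _) fun h => hr (Subgroup.eq_top_of_card_eq _ h)
  obtain ⟨R, hR⟩ := exists_orbitReps (M := M) (P := P) (e := e)
  set N := moveSub M P e
  set ρ : P → ℕ := fun r => rankBelow M p P e (Subgroup.zpowers (r : G))
  have hpos : 0 < Nat.card (killing N) := by
    have := card_killing N (by
      rw [commutator_def, Subgroup.commutator_le]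
      intro x _ y _
      rw [commutatorElement_eq_one_iff_mul_comm.mpr (Subtype.ext (hab x x.2 y y.2))]
      exact N.one_mem)
    rw [this]
    exact Nat.pos_of_ne_zero Subgroup.index_ne_zero_of_finite
  have hS := Nat.eq_of_mul_eq_mul_left hpos ((card_mul_class_sum hM hmax hab hR 1).trans
    (card_mul_class_sum hM hmax hab (hR.mulRight hu) u).symm)
  rw [Finset.filter_image, Finset.sum_image fun a _ b _ h => mul_right_cancel h,
    Finset.filter_congr (s := R) (p := fun r => (1 : P)⁻¹ * r ∈ N) (q := fun r => r ∈ N)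
      (fun r _ => by rw [_root_.inv_one, one_mul]),
    Finset.filter_congr (s := R) (p := fun r => u⁻¹ * (r * u) ∈ N) (q := fun r => r ∈ N)
      (fun r _ => by rw [show u⁻¹ * (r * u) = r from inv_mul_eq_iff_eq_mul.mpr
        (Subtype.ext (hab r r.2 u u.2))])] at hS
  obtain ⟨r₁, hr₁, t, ht, htr⟩ := hR.rep 1
  obtain rfl : r₁ = 1 := Subtype.ext (by rw [← htr]; simp)
  have h1 : (1 : P) ∈ R.filter fun r => r ∈ N := Finset.mem_filter.mpr ⟨hr₁, N.one_mem⟩
  rw [← Finset.add_sum_erase _ _ h1, ← Finset.add_sum_erase _ _ h1,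
    Finset.sum_congr rfl (g := fun r : P => rankBelow M p P e (Subgroup.zpowers ((r * u : P) : G)))
      fun r hr => ?_] at hS
  · have h2 := Nat.add_right_cancel hS
    rw [one_mul, Subgroup.coe_one, Subgroup.zpowers_one_eq_bot,
      rankBelow_central hM hmax bot_le (Subgroup.centralizer_eq_top_iff_subset.mpr (SetLike.coe_subset_coe.mpr bot_le))] at h2
    exact h2.symm
  · obtain ⟨hne, hr'⟩ := Finset.mem_erase.mp hr
    have hrN := (Finset.mem_filter.mp hr').2
    have hnfix : ¬ ∀ t ∈ stab M P e, t * (r : G) * t⁻¹ = r := fun h =>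
      hne (eq_one_of_fixed_moveSub hM hmax hab hrN h)
    rw [hlt r fun h => hnfix fun t _ => commute_of_cen_top h t,
      hlt (r * u) fun h => hnfix fun t ht => ?_]
    · rw [Subgroup.coe_mul, zpowers_mul_sup]
    · have h1 := commute_of_cen_top h t
      rw [Subgroup.coe_mul, show t * ((r : G) * u) * t⁻¹ = t * (r : G) * t⁻¹ * (t * (u : G) * t⁻¹) by group,
        hu t ht] at h1
      exact mul_right_cancel h1

/-- **The number of characters.** -/
theorem card_fixed (hM : IsPModular p M) (hmax : IsMaximalBrauerPair p M B P e)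
    (hab : ∀ x ∈ P, ∀ y ∈ P, x * y = y * x) {u : P} (hu : ∀ t ∈ stab M P e, t * (u : G) * t⁻¹ = u)
    {f : Set (IrrCharacter (Cen (Subgroup.zpowers (u : G))))}
    (hf : SubpairLE p M (Subgroup.zpowers (u : G)) f P e) : Nat.card B = Nat.card f := by
  have := Fintype.ofFinite (Cen (Subgroup.zpowers (u : G)))
  obtain ⟨R, hR⟩ := exists_orbitReps (M := M) (P := P) (e := e)
  obtain ⟨e', he', hst, hst', hrk⟩ := exists_local_pair hM hmax hab hf
  have hPH : P ≤ (Cen (Subgroup.zpowers (u : G))) := fun y hy => mem_cen_zpowers.mpr (hab y hy u u.2)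
  have hsH : ∀ t ∈ stab M P e, t ∈ (Cen (Subgroup.zpowers (u : G))) := fun t ht =>
    mem_cen_zpowers.mpr (mul_inv_eq_iff_eq_mul.mp (hu t ht))
  let ι : P ≃* P.subgroupOf (Cen (Subgroup.zpowers (u : G))) := (Subgroup.subgroupOfEquivOfLe hPH).symm
  have hι : ∀ r : P, (((ι r : P.subgroupOf (Cen (Subgroup.zpowers (u : G)))) : (Cen (Subgroup.zpowers (u : G)))) : G) = (r : G) := fun r => rfl
  have hR' : OrbitReps M (P.subgroupOf (Cen (Subgroup.zpowers (u : G)))) e' (R.image ι) := by
    refine ⟨fun y => ?_, ?_⟩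
    · obtain ⟨r, hr, t, ht, htr⟩ := hR.rep ⟨((y : (Cen (Subgroup.zpowers (u : G)))) : G), y.2⟩
      exact ⟨ι r, Finset.mem_image_of_mem _ hr, ⟨t, hsH t ht⟩, hst' _ ht, Subtype.ext htr⟩
    · intro r hr r' hr' t ht h
      obtain ⟨a, ha, rfl⟩ := Finset.mem_image.mp hr
      obtain ⟨b, hb, rfl⟩ := Finset.mem_image.mp hr'
      rw [hR.uniq a ha b hb t (hst t ht) (congrArg Subtype.val h)]
  have h1 := sum_lin_rank hM hmax hab hR (one_mem _)
  have h2 := sum_lin_rank hM he' (fun x hx y hy => Subtype.ext (hab (x : G) hx (y : G) hy)) hR' (one_mem _)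
  simp only [if_true, MonoidHom.one_apply, Units.val_one, one_mul] at h1 h2
  rw [Finset.sum_image fun a _ b _ h => ι.injective h] at h2
  rw [← Nat.cast_inj (R := ℂ), ← h1, ← h2]
  refine Finset.sum_congr rfl fun r _ => ?_
  congr 1
  rw [hrk _ (Subgroup.zpowers_le.mpr (ι r).2), MonoidHom.map_zpowers]
  show _ = rankBelow M p P e (Subgroup.zpowers (r : G) ⊔ Subgroup.zpowers (u : G))
  by_cases hc : Cen (Subgroup.zpowers (r : G)) = ⊤
  · rw [rankBelow_central hM hmax (Subgroup.zpowers_le.mpr r.2) hc,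
      ← rankBelow_fixed hM _ G B P e rfl hmax hab u hu]
    exact rankBelow_congr hM hmax.1.1 hab (Subgroup.zpowers_le.mpr u.2)
      (sup_le (Subgroup.zpowers_le.mpr r.2) (Subgroup.zpowers_le.mpr u.2))
      (by rw [cen_sup_eq, hc, top_inf_eq])
  · have := Fintype.ofFinite (Cen (Subgroup.zpowers (r : G)))
    exact rankBelow_sup_of_ih hM hmax hab hu r fun B' P' e'' h1 h2 u' h3 =>
      rankBelow_fixed hM _ _ B' P' e'' rfl h1 h2 u' h3

end CfsgLib.Star
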