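import Cfsg.Agent.Lib.Star.Prim
import Cfsg.Agent.Lib.NilBlock.Rows

/-!
# A trace from a maximal subgroup

`exists_trace`: a primitive idempotent of `(kG)^Q` with vanishing Brauer image is a trace from a
subgroup of index `p`.
-/

set_option autoImplicit false

noncomputable section

namespace CfsgLib.Star

open Cfsg CfsgLib.Blocks CfsgLib.BrauerPairs CfsgLib.NilBlock
open scoped Classical

attribute [local instance] CfsgLib.Blocks.resField

universe u

variable {M : Ideal AlgInt} [M.IsMaximal] {G : Type u} [Group G] [Fintype G] {p : ℕ} [hp : Fact p.Prime]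

omit hp in
theorem pow_dvd_cosets {Q R : Subgroup G} (hRN : Q ≤ Subgroup.normalizer (R : Set G))
    (hcard : p * Nat.card R = Nat.card Q) (hRQ : R ≤ Q) (hp : p.Prime) {x : G} (hx : x ∈ Q) (hxR : x ∉ R) :
    (∀ v ∈ Q, ∃ k < p, (x ^ k)⁻¹ * v ∈ R) ∧ ∀ k l : ℕ, k < p → l < p → (x ^ k)⁻¹ * x ^ l ∈ R → k = l := by
  have : Fact p.Prime := ⟨hp⟩
  have hn : (R.subgroupOf Q).Normal := (Subgroup.normal_subgroupOf_iff_le_normalizer hRQ).mpr hRN
  have hcR : Nat.card (R.subgroupOf Q) = Nat.card R :=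
    Nat.card_congr (Subgroup.subgroupOfEquivOfLe hRQ).toEquiv
  have hcard' : Nat.card (Q ⧸ R.subgroupOf Q) = p := by
    have h := Subgroup.card_eq_card_quotient_mul_card_subgroup (R.subgroupOf Q)
    rw [hcR, ← hcard] at h
    exact (Nat.eq_of_mul_eq_mul_right Nat.card_pos h).symm
  have hne : (QuotientGroup.mk (⟨x, hx⟩ : Q) : Q ⧸ R.subgroupOf Q) ≠ 1 := fun h =>
    hxR ((QuotientGroup.eq_one_iff (N := R.subgroupOf Q) _).mp h)
  have hord : orderOf (QuotientGroup.mk (⟨x, hx⟩ : Q) : Q ⧸ R.subgroupOf Q) = p :=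
    orderOf_eq_prime (by rw [← hcard']; exact pow_card_eq_one') hne
  refine ⟨fun v hv => ?_, fun k l hk hl h => ?_⟩
  · obtain ⟨k, hk⟩ := Submonoid.mem_powers_iff _ _ |>.mp
      (mem_powers_of_prime_card (g' := (QuotientGroup.mk (⟨v, hv⟩ : Q) : Q ⧸ R.subgroupOf Q)) hcard' hne)
    refine ⟨k % p, Nat.mod_lt _ hp.pos, ?_⟩
    have h1 : ((⟨x, hx⟩ : Q) ^ (k % p))⁻¹ * ⟨v, hv⟩ ∈ R.subgroupOf Q := by
      rw [← QuotientGroup.eq, QuotientGroup.mk_pow]
      conv_lhs => rw [← hord, pow_mod_orderOf]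
      exact hk
    simpa [Subgroup.mem_subgroupOf] using h1
  · have h1 : ((⟨x, hx⟩ : Q) ^ k)⁻¹ * (⟨x, hx⟩ : Q) ^ l ∈ R.subgroupOf Q := by
      simpa [Subgroup.mem_subgroupOf] using h
    rw [← QuotientGroup.eq, QuotientGroup.mk_pow, QuotientGroup.mk_pow] at h1
    exact pow_injOn_Iio_orderOf (Set.mem_Iio.mpr (hord.symm ▸ hk)) (Set.mem_Iio.mpr (hord.symm ▸ hl)) h1

theorem exists_index_p {Q D : Subgroup G} (hQ : IsPGroup p Q) (hD : D < Q) :
    ∃ R : Subgroup G, R ≤ Q ∧ Q ≤ Subgroup.normalizer (R : Set G) ∧ p * Nat.card R = Nat.card Q ∧ D ≤ R := by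
  obtain ⟨n, hn⟩ := IsPGroup.iff_card.mp hQ
  obtain ⟨m, hm⟩ := IsPGroup.iff_card.mp (hQ.to_le hD.le)
  have hlt : m < n := by
    have := card_lt_card_of_lt hD
    rw [hn, hm] at this
    exact (Nat.pow_lt_pow_iff_right hp.out.one_lt).mp this
  have hDQ : Nat.card (D.subgroupOf Q) = p ^ m := by
    rw [← hm]; exact Nat.card_congr (Subgroup.subgroupOfEquivOfLe hD.le).toEquiv
  obtain ⟨K, hK, hDK⟩ := Sylow.exists_subgroup_card_pow_prime_le p (n := m) (m := n - 1)
    (by rw [hn]; exact pow_dvd_pow p (by omega)) (D.subgroupOf Q) hDQ (by omega)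
  have hpn : p ^ n = p * p ^ (n - 1) := by
    rw [← pow_succ']; congr 1; omega
  have hidx : K.index = p := by
    have h := K.card_mul_index
    rw [hK, hn, hpn, mul_comm p] at h
    exact Nat.eq_of_mul_eq_mul_left (pow_pos hp.out.pos _) h
  have hKn : K.Normal := Subgroup.normal_of_index_eq_minFac_card (by
    rw [hidx, hn, hp.out.pow_minFac (by omega)])
  refine ⟨K.map Q.subtype, Subgroup.map_subtype_le K, fun v hv => ?_, ?_, fun d hd => ?_⟩
  · rw [Subgroup.mem_normalizer_iff_map_conj_eq, Subgroup.map_map]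
    refine le_antisymm ?_ ?_
    · rintro _ ⟨z, hz, rfl⟩
      exact ⟨⟨v, hv⟩ * z * ⟨v, hv⟩⁻¹, hKn.conj_mem z hz _, rfl⟩
    · rintro _ ⟨z, hz, rfl⟩
      refine ⟨⟨v, hv⟩⁻¹ * z * ⟨v, hv⟩, ?_, ?_⟩
      · simpa using hKn.conj_mem z hz ⟨v, hv⟩⁻¹
      · show v * (v⁻¹ * (z : G) * v) * v⁻¹ = (z : G)
        group
  · rw [Subgroup.card_map_of_injective Q.subtype_injective, hK, hn, hpn]
  · exact ⟨⟨d, hD.le hd⟩, hDK hd, rfl⟩

variable [IsAlgClosed (Res M)]

/-- **The trace.** -/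
theorem exists_trace {Q : Subgroup G} (hQ : IsPGroup p Q) {y : KG M G} (hy : Prim (fixSub M Q) y)
    (h0 : br Q y = 0) :
    ∃ R : Subgroup G, R ≤ Q ∧ Q ≤ Subgroup.normalizer (R : Set G) ∧ p * Nat.card R = Nat.card Q ∧
      ∃ c, InCor (fixSub M R) y c ∧ ∀ x ∈ Q, x ∉ R → y = ∑ k ∈ Finset.range p, cjA (x ^ k) c := by
  have := Fintype.ofFinite (Subgroup G)
  let D : G → Subgroup G := fun g => Q ⊓ Subgroup.centralizer ({g} : Set G)
  let cand : Subgroup G → Prop := fun R =>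
    R ≤ Q ∧ Q ≤ Subgroup.normalizer (R : Set G) ∧ p * Nat.card R = Nat.card Q
  let pick : (Subgroup G → Prop) → Subgroup G := fun S => if h : ∃ R, S R then h.choose else ⊤
  let Rof : G → Subgroup G := fun g => pick fun R => cand R ∧ D g ≤ R
  have hRof : ∀ g, D g ≠ Q → cand (Rof g) ∧ D g ≤ Rof g := by
    intro g hg
    obtain ⟨R, h1, h2, h3, h4⟩ := exists_index_p hQ (lt_of_le_of_ne inf_le_left hg)
    have h : ∃ R, cand R ∧ D g ≤ R := ⟨R, ⟨h1, h2, h3⟩, h4⟩
    simp only [Rof, pick, dif_pos h]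
    exact h.choose_spec
  have hRinv : ∀ v ∈ Q, ∀ g, Rof (v * g * v⁻¹) = Rof g := by
    intro v hv g
    refine congrArg pick (funext fun R => propext (and_congr_right fun hR => ?_))
    have hnorm := Subgroup.mem_set_normalizer_iff.mp (hR.2.1 hv)
    constructor
    · intro h w hw
      refine (hnorm w).mpr (h ⟨Q.mul_mem (Q.mul_mem hv hw.1) (Q.inv_mem hv),
        Subgroup.mem_centralizer_singleton_iff.mpr ?_⟩)
      calc v * w * v⁻¹ * (v * g * v⁻¹) = v * (w * g) * v⁻¹ := by group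
        _ = _ := by rw [Subgroup.mem_centralizer_singleton_iff.mp hw.2]; group
    · intro h w hw
      have h1 : v⁻¹ * w * v ∈ D g := ⟨Q.mul_mem (Q.mul_mem (Q.inv_mem hv) hw.1) hv,
        Subgroup.mem_centralizer_singleton_iff.mpr (by
          calc v⁻¹ * w * v * g = v⁻¹ * (w * (v * g * v⁻¹)) * v := by group
            _ = _ := by rw [Subgroup.mem_centralizer_singleton_iff.mp hw.2]; group)⟩
      have h2 := (hnorm _).mp (h h1)
      rwa [show v * (v⁻¹ * w * v) * v⁻¹ = w by group] at h2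
  have hyfix : IsFixed Q y := hy.mem
  let a : Subgroup G → KG M G := fun R => ofFun fun g => if Rof g = R then y.coeff g else 0
  have hafix : ∀ R, IsFixed Q (a R) := fun R => isFixed_iff.mpr fun v hv g => by
    simp only [a, coeff_ofFun, hRinv v hv g, isFixed_iff.mp hyfix v hv g]
  have hsum : y = ∑ R ∈ Finset.univ.filter cand, y * a R * y := by
    have h1 : ∑ R ∈ Finset.univ.filter cand, a R = y := by
      refine ext_coeff fun g => ?_
      rw [MonoidAlgebra.coeff_sum, Finsupp.finsetSum_apply]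
      simp only [a, coeff_ofFun, Finset.sum_ite_eq, Finset.mem_filter, Finset.mem_univ, true_and]
      split_ifs with hc
      · rfl
      · by_cases hD : D g = Q
        · have hg : g ∈ Subgroup.centralizer (Q : Set G) := Subgroup.mem_centralizer_iff.mpr fun q hq =>
            Subgroup.mem_centralizer_singleton_iff.mp (hD.symm.le hq).2
          have := congrArg (fun z : KG M G => z.coeff g) h0
          simp [coeff_br, hg] at this
          exact this.symm
        · exact absurd (hRof g hD).1 hc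
    rw [← Finset.sum_mul, ← Finset.mul_sum, h1, hy.idem, hy.idem]
  have hcor : ∀ R, InCor (fixSub M Q) y (y * a R * y) := fun R => InCor.of_mul hy.idem hy.mem (hafix R)
  obtain ⟨R, hR, hne⟩ : ∃ R ∈ Finset.univ.filter cand, scal (fixSub M Q) y (y * a R * y) ≠ 0 := by
    refine Finset.exists_ne_zero_of_sum_ne_zero ?_
    rw [← hy.scal_sum _ fun R _ => hcor R, ← hsum, hy.scal_self]
    exact one_ne_zero
  obtain ⟨hRQ, hRN, hRc⟩ := (Finset.mem_filter.mp hR).2
  obtain ⟨b, hb, hab, -⟩ := (hy.dichotomy (hcor R)).resolve_right fun hn =>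
    hne (hy.scal_eq (hcor R) (by rwa [zero_smul, sub_zero]))
  -- half of each orbit
  let O : G → Set G := fun g => {h | ∃ v ∈ Q, h = v * g * v⁻¹}
  have hOinv : ∀ v ∈ Q, ∀ g, O (v * g * v⁻¹) = O g := by
    intro v hv g
    ext h
    constructor
    · rintro ⟨w, hw, rfl⟩; exact ⟨w * v, Q.mul_mem hw hv, by group⟩
    · rintro ⟨w, hw, rfl⟩; exact ⟨w * v⁻¹, Q.mul_mem hw (Q.inv_mem hv), by group⟩
  let some' : Set G → G := fun s => if h : s.Nonempty then h.some else 1
  let rep : G → G := fun g => some' (O g)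
  have hrep : ∀ g, ∃ v ∈ Q, g = v * rep g * v⁻¹ := by
    intro g
    have hne : (O g).Nonempty := ⟨g, 1, one_mem _, by group⟩
    have h : rep g ∈ O g := by simp only [rep, some', dif_pos hne]; exact hne.some_mem
    obtain ⟨v, hv, hv'⟩ := h
    exact ⟨v⁻¹, Q.inv_mem hv, by rw [hv']; group⟩
  have hrepinv : ∀ v ∈ Q, ∀ g, rep (v * g * v⁻¹) = rep g := fun v hv g => congrArg some' (hOinv v hv g)
  let c0 : KG M G := ofFun fun g =>
    if Rof g = R ∧ ∃ r ∈ R, g = r * rep g * r⁻¹ then y.coeff g else 0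
  have hc0fix : IsFixed R c0 := isFixed_iff.mpr fun r hr g => by
    simp only [c0, coeff_ofFun, hRinv r (hRQ hr) g, hrepinv r (hRQ hr) g, isFixed_iff.mp hyfix r (hRQ hr) g]
    refine if_congr (and_congr_right fun _ => ?_) rfl rfl
    constructor
    · rintro ⟨s, hs, hsg⟩
      refine ⟨r⁻¹ * s, R.mul_mem (R.inv_mem hr) hs, ?_⟩
      calc g = r⁻¹ * (r * g * r⁻¹) * r := by group
        _ = _ := by rw [hsg]; group
    · rintro ⟨s, hs, hsg⟩
      refine ⟨r * s, R.mul_mem hr hs, ?_⟩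
      conv_lhs => rw [hsg]
      group
  refine ⟨R, hRQ, hRN, hRc, y * c0 * y * b, ⟨?_, ?_, ?_⟩, fun x hx hxR => ?_⟩
  · exact (((hyfix.mono hRQ).mul hc0fix).mul (hyfix.mono hRQ)).mul ((show IsFixed Q b from hb.mem).mono hRQ)
  · simp only [← mul_assoc, hy.idem]
  · rw [mul_assoc _ b, hb.right]
  obtain ⟨hcov, huniq⟩ := pow_dvd_cosets hRN hRc hRQ hp.out hx hxR
  have hterm : ∀ k : ℕ, cjA (x ^ k) (y * c0 * y * b) = y * cjA (x ^ k) c0 * y * b := fun k => by
    rw [map_mul, map_mul, map_mul, hyfix _ (Q.pow_mem hx k), (show IsFixed Q b from hb.mem) _ (Q.pow_mem hx k)]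
  have ha : ∑ k ∈ Finset.range p, cjA (x ^ k) c0 = a R := by
    refine ext_coeff fun g => ?_
    rw [MonoidAlgebra.coeff_sum, Finsupp.finsetSum_apply]
    simp only [coeff_cjA, a, coeff_ofFun]
    by_cases hg : Rof g = R
    swap
    · rw [if_neg hg, Finset.sum_eq_zero fun k _ => ?_]
      simp only [c0, coeff_ofFun]
      rw [if_neg]
      rintro ⟨h, -⟩
      apply hg
      rw [← h]
      have hk : (x ^ k)⁻¹ * g * x ^ k = (x ^ k)⁻¹ * g * (x ^ k)⁻¹⁻¹ := by rw [inv_inv]
      rw [hk, hRinv _ (Q.inv_mem (Q.pow_mem hx k)) g]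
    rw [if_pos hg]
    by_cases hD : D g = Q
    · -- a fixed element carries no coefficient
      have hgc : g ∈ Subgroup.centralizer (Q : Set G) := Subgroup.mem_centralizer_iff.mpr fun q hq =>
        Subgroup.mem_centralizer_singleton_iff.mp (hD.symm.le hq).2
      have hyg : y.coeff g = 0 := by
        have := congrArg (fun z : KG M G => z.coeff g) h0
        simpa [coeff_br, hgc] using this
      rw [hyg]
      refine Finset.sum_eq_zero fun k _ => ?_
      simp only [c0, coeff_ofFun]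
      have hk : (x ^ k)⁻¹ * g * x ^ k = g := by
        rw [mul_assoc, ← Subgroup.mem_centralizer_iff.mp hgc _ (Q.pow_mem hx k), inv_mul_cancel_left]
      rw [hk, hyg, ite_self]
    obtain ⟨v, hv, hgv⟩ := hrep g
    obtain ⟨k, hk, hkv⟩ := hcov v hv
    have hgk : ∀ l : ℕ, (x ^ l)⁻¹ * g * x ^ l = (x ^ l)⁻¹ * g * (x ^ l)⁻¹⁻¹ := fun l => by rw [inv_inv]
    rw [Finset.sum_eq_single k]
    · simp only [c0, coeff_ofFun]
      have hrr : (x ^ k)⁻¹ * g * (x ^ k)⁻¹⁻¹ = (x ^ k)⁻¹ * v * rep g * ((x ^ k)⁻¹ * v)⁻¹ := by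
        calc (x ^ k)⁻¹ * g * (x ^ k)⁻¹⁻¹ = (x ^ k)⁻¹ * (v * rep g * v⁻¹) * (x ^ k)⁻¹⁻¹ := by rw [← hgv]
          _ = _ := by group
      rw [hgk, hRinv _ (Q.inv_mem (Q.pow_mem hx k)) g, hrepinv _ (Q.inv_mem (Q.pow_mem hx k)) g,
        isFixed_iff.mp hyfix _ (Q.inv_mem (Q.pow_mem hx k)) g, if_pos ⟨hg, (x ^ k)⁻¹ * v, hkv, hrr⟩]
    · intro l hl hlk
      simp only [c0, coeff_ofFun]
      rw [if_neg]
      rintro ⟨-, r, hr, hrg⟩
      apply hlk
      rw [hgk, hrepinv _ (Q.inv_mem (Q.pow_mem hx l)) g, inv_inv] at hrg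
      have hstab : v⁻¹ * (x ^ l * r) ∈ D (rep g) := by
        refine ⟨Q.mul_mem (Q.inv_mem hv) (Q.mul_mem (Q.pow_mem hx l) (hRQ hr)),
          Subgroup.mem_centralizer_singleton_iff.mpr ?_⟩
        have h1 : g = x ^ l * r * rep g * (x ^ l * r)⁻¹ := by
          calc g = x ^ l * ((x ^ l)⁻¹ * g * x ^ l) * (x ^ l)⁻¹ := by group
            _ = _ := by rw [hrg]; group
        calc v⁻¹ * (x ^ l * r) * rep g = v⁻¹ * (x ^ l * r * rep g * (x ^ l * r)⁻¹) * (x ^ l * r) := by group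
          _ = v⁻¹ * (v * rep g * v⁻¹) * (x ^ l * r) := by rw [← h1, ← hgv]
          _ = _ := by group
      have hrepR : D (rep g) ≤ R := by
        have hne : D (rep g) ≠ Q := by
          intro hDe
          apply hD
          refine le_antisymm inf_le_left fun q hq => ⟨hq, ?_⟩
          rw [hgv]
          have h1 : rep g ∈ Subgroup.centralizer (Q : Set G) := Subgroup.mem_centralizer_iff.mpr fun q hq =>
            Subgroup.mem_centralizer_singleton_iff.mp (hDe.symm.le hq).2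
          have h2 : v * rep g * v⁻¹ = rep g := by
            rw [Subgroup.mem_centralizer_iff.mp h1 v hv, mul_inv_cancel_right]
          rw [h2]
          exact Subgroup.mem_centralizer_singleton_iff.mpr (Subgroup.mem_centralizer_iff.mp h1 q hq)
        have h2 := (hRof _ hne).2
        have h3 : Rof (rep g) = R := by
          rw [← hg]
          conv_rhs => rw [hgv]
          exact (hRinv v hv _).symm
        rwa [h3] at h2
      have h4 : (x ^ k)⁻¹ * x ^ l ∈ R := by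
        have h5 := R.mul_mem (R.mul_mem hkv (hrepR hstab)) (R.inv_mem hr)
        rwa [show (x ^ k)⁻¹ * v * (v⁻¹ * (x ^ l * r)) * r⁻¹ = (x ^ k)⁻¹ * x ^ l by group] at h5
      exact (huniq k l hk (Finset.mem_range.mp hl) h4).symm
    · exact fun h => absurd (Finset.mem_range.mpr hk) h
  simp only [hterm]
  rw [← Finset.sum_mul, ← Finset.sum_mul, ← Finset.mul_sum, ha]
  exact hab.symm

end CfsgLib.Star
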