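import Cfsg.Agent.Lib.Star.Eval
import Cfsg.Agent.Lib.Star.Trace
import Cfsg.Agent.Lib.BlockArith.GenInd

/-!
# The twist is locally integral

* `Twist.gl_mem`: on every `p`-subgroup, through every idempotent, the twist pairs integrally;
* `Twist.classInner_mem`: its inner products with the characters are local integers.
-/

set_option autoImplicit false

noncomputable section

namespace CfsgLib.Star

open Cfsg CfsgLib.Blocks CfsgLib.BlockArith CfsgLib.Char CfsgLib.BrauerPairs CfsgLib.NilBlock
open scoped ComplexConjugate Classical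

attribute [local instance] CfsgLib.Blocks.resField

universe u

variable {G : Type u} [Group G] [Fintype G] {M : Ideal AlgInt} [M.IsMaximal] {p : ℕ} [hp : Fact p.Prime]
  {B : Set (IrrCharacter G)} {P : Subgroup G} {e : Set (IrrCharacter (Cen P))} {l : P →* ℂˣ}

omit hp in
theorem charLin_single_mul_comm {f : G → ℂ} (hf : IsClassFunction G f) (a b : LA M G) :
    charLin f (toCA M G (a * b)) = charLin f (toCA M G (b * a)) := by
  rw [map_mul (toCA M G), map_mul (toCA M G), charLin_mul_comm hf]

omit hp in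
theorem isClassFunction_gl {f : G → ℂ} (hf : IsClassFunction G f) {Q : Subgroup G} {i : LA M G}
    (hiQ : Inv Q i) : IsClassFunction Q (gl f Q i) := by
  intro v w
  simp only [gl, Subgroup.coe_mul, Subgroup.coe_inv]
  have h : (MonoidAlgebra.single ((w : G) * v * (w : G)⁻¹) 1 * i : LA M G) =
      MonoidAlgebra.single (w : G) 1 * (MonoidAlgebra.single (v : G) 1 * i * MonoidAlgebra.single (w : G)⁻¹ 1) := by
    rw [mul_assoc _ i, (hiQ _ (Q.inv_mem w.2)).eq, ← mul_assoc, ← mul_assoc,
      MonoidAlgebra.single_mul_single, MonoidAlgebra.single_mul_single, mul_one, mul_one]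
  rw [h, charLin_single_mul_comm hf, mul_assoc _ (MonoidAlgebra.single (w : G)⁻¹ 1),
    MonoidAlgebra.single_mul_single, inv_mul_cancel, mul_one, ← MonoidAlgebra.one_def, mul_one]

omit hp in
/-- Conjugation of the local group algebra. -/
theorem red_conj (x : G) (J : LA M G) :
    redLA M G (MonoidAlgebra.single x 1 * J * MonoidAlgebra.single x⁻¹ 1) = cjA x (redLA M G J) :=
  ext_coeff fun g => by
    rw [coeff_redLA, coeff_cjA, coeff_redLA]
    simp [MonoidAlgebra.coeff_mul_single_apply, MonoidAlgebra.coeff_single_mul_apply, mul_assoc]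

omit hp in
theorem inv_conj {R : Subgroup G} {x : G} (hxN : x ∈ Subgroup.normalizer (R : Set G)) {J : LA M G}
    (hJ : Inv R J) : Inv R (MonoidAlgebra.single x 1 * J * MonoidAlgebra.single x⁻¹ 1) := fun v hv => by
  have hv' : x⁻¹ * v * x ∈ R := mem_normalizer_iff''.mp hxN v |>.mp hv
  refine (commute_single_iff _ v).mpr fun g => ?_
  simp only [MonoidAlgebra.coeff_mul_single_apply, MonoidAlgebra.coeff_single_mul_apply, one_mul, mul_one,
    inv_inv]
  rw [← (commute_single_iff J (x⁻¹ * v * x)).mp (hJ _ hv') (x⁻¹ * (g * x))]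
  congr 1
  group

omit hp in
theorem primLA_of_red {Q : Subgroup G} {i : LA M G} (hi : i * i = i) (hiQ : Inv Q i)
    (h : Prim (fixSub M Q) (redLA M G i)) : PrimLA Q i := by
  refine ⟨hi, fun h0 => h.ne (by rw [h0, map_zero]), hiQ, fun e hee heQ hie hei => ?_⟩
  rcases h.prim _ ⟨heQ.fixed, by rw [← map_mul, hie], by rw [← map_mul, hei]⟩ (by rw [← map_mul, hee]) with
    h1 | h1
  · exact Or.inl (idem_eq_zero_of_red hee h1)
  · refine Or.inr (sub_eq_zero.mp (idem_eq_zero_of_red (y := i - e) ?_ (by rw [map_sub, h1, sub_self]))).symm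
    rw [sub_mul, mul_sub, mul_sub, hi, hie, hei, hee]; abel

omit hp in
theorem exists_lift_prim (hM : IsPModular p M) {Q : Subgroup G} {x : KG M G} (hx : Prim (fixSub M Q) x) :
    ∃ J : LA M G, PrimLA Q J ∧ redLA M G J = x := by
  obtain ⟨e, b, hab, -, hee, -, -, hcom, m, hm⟩ := exists_spectral hM (liftLA M x)
  have he : x = redLA M G e := by
    refine eq_of_spectral (y := redLA M G b) (m := m) ?_ ?_ hx.idem
    · have h := congrArg (redLA M G) hab
      rwa [map_mul, redLA_liftLA] at h
    · rw [map_mul, map_pow, map_sub, map_one, redLA_liftLA] at hm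
      exact hm
  exact ⟨e, primLA_of_red hee (fun v hv => (hcom _ (inv_liftLA hx.mem v hv)).1) (he ▸ hx), he.symm⟩

variable [IsAlgClosed (Res M)]

/-- Only the class of a primitive idempotent matters. -/
theorem gl_eq_of_equiv (hM : IsPModular p M) {f : G → ℂ} (hf : IsClassFunction G f) {R : Subgroup G}
    {J J' : LA M G} (hJ : PrimLA R J) (hJ' : PrimLA R J') {x w : KG M G} (hx : IsFixed R x)
    (hw : IsFixed R w) (h1 : redLA M G J * x = x) (h2 : x * redLA M G J' = x) (h3 : redLA M G J' * w = w)
    (h4 : w * redLA M G J = w) (hs : scal (fixSub M R) (redLA M G J) (x * w) ≠ 0) :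
    gl f R J = gl f R J' := by
  obtain ⟨X, W, -, hW, hXW, hWX⟩ := exists_lift_equiv hM hJ hJ' hx hw h1 h2 h3 h4 hs
  funext v
  simp only [gl]
  conv_lhs => rw [← hXW, ← mul_assoc, charLin_single_mul_comm hf, ← mul_assoc, (hW v v.2).eq, mul_assoc, hWX]

theorem gl_eq_of_red (hM : IsPModular p M) {f : G → ℂ} (hf : IsClassFunction G f) {R : Subgroup G}
    {J J' : LA M G} (hJ : PrimLA R J) (hJ' : PrimLA R J') (h : redLA M G J = redLA M G J') :
    gl f R J = gl f R J' := by
  have hP := hJ.red hM
  refine gl_eq_of_equiv hM hf hJ hJ' hP.mem hP.mem hP.idem (by rw [← h, hP.idem]) (by rw [← h, hP.idem])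
    hP.idem ?_
  rw [hP.idem, hP.scal_self]
  exact one_ne_zero

theorem Twist.gl_mem (T : Twist M p B P e l) (χ : IrrCharacter G) : ∀ (Q : Subgroup G), IsPGroup p Q →
    ∀ i : LA M G, i * i = i → Inv Q i → gl (star M p B P e l χ) Q i ∈ pairingRing M Q := by
  have hM := T.hM
  have : CharP (Res M) p := res_charP M hM
  have hcl := T.isClassFunction_star χ
  set f := star M p B P e l χ
  intro Q
  induction hn : Nat.card Q using Nat.strong_induction_on generalizing Q with
  | _ n ih =>
    intro hQ i hi hiQ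
    obtain ⟨m, j, hj, hji, -, -⟩ := exists_decomp Q hi hiQ
    rw [← hji, gl_sum]
    refine Subring.sum_mem _ fun a _ => ?_
    clear hji hi hiQ i
    obtain ⟨i, hi⟩ : ∃ i, PrimLA Q i ∧ i = j a := ⟨_, hj a, rfl⟩
    rw [← hi.2]
    replace hi := hi.1
    by_cases hbr : br Q (redLA M G i) = 0
    swap
    · exact T.gl_mem_top χ hQ hi hbr
    refine ⟨isClassFunction_gl hcl hi.inv, fun θ hθ => ?_⟩
    obtain ⟨R, hRQ, hRN, hRc, c, hc, hyc⟩ := exists_trace hQ (hi.red hM) hbr
    have hRlt : Nat.card R < n := by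
      rw [← hn, ← hRc]
      exact (Nat.lt_mul_iff_one_lt_left Nat.card_pos).mpr hp.out.one_lt
    obtain ⟨x, hx, hxR⟩ : ∃ x ∈ Q, x ∉ R := by
      by_contra! h
      have := Subgroup.card_le_of_le (h : Q ≤ R)
      omega
    let ι : R → Q := fun v => ⟨v, hRQ v.2⟩
    have hι : IsCharacter R fun v : R => θ (ι v) := isCharacter_comp hθ (Subgroup.inclusion hRQ)
    let val : LA M G → ℂ := fun J => (Nat.card R : ℂ)⁻¹ * ∑ v : R, gl f R J v * θ (ι v)
    have hvalmem : ∀ J, J * J = J → Inv R J → val J ∈ locRing M := fun J hJ hJR =>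
      (ih _ hRlt R rfl (hQ.to_le hRQ) J hJ hJR).2 _ hι
    let Pval : KG M G → ℂ := fun z =>
      if h : ∃ J, PrimLA R J ∧ redLA M G J = z then val h.choose else 0
    have hPval : ∀ J, PrimLA R J → Pval (redLA M G J) = val J := fun J hJ => by
      have h : ∃ J', PrimLA R J' ∧ redLA M G J' = redLA M G J := ⟨J, hJ, rfl⟩
      simp only [Pval, dif_pos h, val]
      rw [gl_eq_of_red hM hcl h.choose_spec.1 hJ h.choose_spec.2]
    let σ : KG M G ≃ₐ[Res M] KG M G :=
      AlgEquiv.ofRingEquiv (f := cjA x) fun c => (fixSub M (⊤ : Subgroup G)).algebraMap_mem c x trivial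
    have hσ : ∀ z, σ z = cjA x z := fun z => rfl
    have hσS : ∀ z, σ z ∈ fixSub M R ↔ z ∈ fixSub M R := by
      have hxN := hRN hx
      have key : ∀ w ∈ Subgroup.normalizer (R : Set G), ∀ z : KG M G, IsFixed R z → IsFixed R (cjA w z) :=
        fun w hw z hz v hv => by
          rw [cjA_cjA, show v * w = w * (w⁻¹ * v * w) by group, ← cjA_cjA,
            hz _ ((mem_normalizer_iff''.mp hw v).mp hv)]
      intro z
      rw [hσ, mem_fixSub, mem_fixSub]
      refine ⟨fun h => ?_, key x hxN z⟩
      have := key x⁻¹ (inv_mem hxN) _ h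
      rwa [cjA_inv_cjA] at this
    obtain ⟨k, J, hJ, hJi, hJo, -⟩ := exists_decomp R hi.idem (hi.inv.mono hRQ)
    have hyσ : σ (redLA M G i) = redLA M G i := by rw [hσ]; exact hi.inv.fixed x hx
    have hiter : ∀ t : ℕ, (⇑σ)^[t] c = cjA (x ^ t) c := fun t => by
      induction t with
      | zero => rw [Function.iterate_zero_apply, pow_zero, cjA_one]
      | succ t iht => rw [Function.iterate_succ_apply', iht, hσ, cjA_cjA, pow_succ']
    have hdvd : ∀ v : ℂ, p ∣ (Finset.univ.filter fun a : Fin k => Pval (redLA M G (J a)) = v).card := by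
      refine fun v => dvd_card_class (S := fixSub M R) Pval σ hσS ?_ ?_ hyσ hc ?_
        (fun a => redLA M G (J a)) (fun a => (hJ a).red hM) (by rw [← map_sum, hJi])
        (fun a b hab => by rw [← map_mul, hJo a b hab, map_zero]) v
      · intro z z' hz hz' X W hX hW e1 e2 e3 e4 hs
        obtain ⟨Jz, hJz, rfl⟩ := exists_lift_prim hM hz
        obtain ⟨Jz', hJz', rfl⟩ := exists_lift_prim hM hz'
        rw [hPval _ hJz, hPval _ hJz']
        simp only [val]
        rw [gl_eq_of_equiv hM hcl hJz hJz' hX hW e1 e2 e3 e4 hs]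
      · intro z hz
        obtain ⟨Jz, hJz, rfl⟩ := exists_lift_prim hM hz
        obtain ⟨U, hU⟩ : ∃ U : LA M G,
            U = MonoidAlgebra.single x 1 * Jz * MonoidAlgebra.single x⁻¹ 1 := ⟨_, rfl⟩
        have hUU : U * U = U := by
          rw [hU, show MonoidAlgebra.single x (1 : locRing M) * Jz * MonoidAlgebra.single x⁻¹ 1 *
            (MonoidAlgebra.single x 1 * Jz * MonoidAlgebra.single x⁻¹ 1) = MonoidAlgebra.single x 1 *
            (Jz * (MonoidAlgebra.single x⁻¹ 1 * MonoidAlgebra.single x 1) * Jz) * MonoidAlgebra.single x⁻¹ 1 by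
              simp only [mul_assoc], MonoidAlgebra.single_mul_single, inv_mul_cancel, mul_one,
            ← MonoidAlgebra.one_def, mul_one, hJz.idem]
        have hUred : redLA M G U = σ (redLA M G Jz) := by rw [hU, red_conj, hσ]
        have hσP : Prim (fixSub M R) (σ (redLA M G Jz)) := by
          refine ⟨by rw [← map_mul, hz.idem], fun h => hz.ne (σ.injective (h.trans (map_zero σ).symm)),
            (hσS _).mpr hz.mem, fun e he hee => ?_⟩
          obtain ⟨e', rfl⟩ := σ.surjective e
          have he' : InCor (fixSub M R) (redLA M G Jz) e' := ⟨(hσS _).mp he.mem,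
            σ.injective (by rw [map_mul]; exact he.left), σ.injective (by rw [map_mul]; exact he.right)⟩
          rcases hz.prim e' he' (σ.injective (by rw [map_mul]; exact hee)) with h | h
          · exact Or.inl (by rw [h, map_zero])
          · exact Or.inr (by rw [h])
        have hUP : PrimLA R U := primLA_of_red hUU (hU ▸ inv_conj (hRN hx) hJz.inv) (hUred ▸ hσP)
        rw [← hUred, hPval _ hUP, hPval _ hJz]
        simp only [val]
        congr 1
        refine Fintype.sum_equiv
          { toFun := fun v : R => (⟨x⁻¹ * v * x, (mem_normalizer_iff''.mp (hRN hx) v).mp v.2⟩ : R)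
            invFun := fun v : R => (⟨x * v * x⁻¹, (Subgroup.mem_set_normalizer_iff.mp (hRN hx) v).mp v.2⟩ : R)
            left_inv := fun v => Subtype.ext (show x * (x⁻¹ * (v : G) * x) * x⁻¹ = v by group)
            right_inv := fun v => Subtype.ext (show x⁻¹ * (x * (v : G) * x⁻¹) * x = v by group) } _ _ fun v => ?_
        simp only [Equiv.coe_fn_mk, gl]
        congr 1
        · rw [hU, ← mul_assoc, charLin_single_mul_comm hcl, ← mul_assoc, ← mul_assoc,
            MonoidAlgebra.single_mul_single, MonoidAlgebra.single_mul_single, mul_one, mul_one]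
        · exact (isClassFunction_of_isCharacter hθ _ ⟨x⁻¹, Q.inv_mem hx⟩).symm.trans (congrArg θ
            (Subtype.ext (show x⁻¹ * (v : G) * x⁻¹⁻¹ = x⁻¹ * v * x by rw [inv_inv])))
      · simp only [hiter]; exact hyc x hx hxR
    -- nothing outside `R`
    have hvan : ∀ v : Q, (v : G) ∉ R → gl f Q i v = 0 := by
      intro v hv
      refine charLin_eq_zero_of_br hM (exists_pow_of_mem hQ v.2) hi.idem (hi.inv v v.2) ?_ hcl
      refine ext_coeff fun g => ?_
      rw [coeff_br]
      split_ifs with hg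
      swap
      · simp
      rw [hyc v v.2 hv, MonoidAlgebra.coeff_sum, Finsupp.finsetSum_apply,
        Finset.sum_congr rfl (g := fun _ => c.coeff g) fun t _ => ?_, Finset.sum_const, Finset.card_range,
        nsmul_eq_mul, CharP.cast_eq_zero, zero_mul]
      · simp
      · rw [coeff_cjA, mul_assoc, ← Subgroup.mem_centralizer_iff.mp hg _
          (Subgroup.pow_mem _ (Subgroup.mem_zpowers _) t), inv_mul_cancel_left]
    have hsum : ∑ v : Q, gl f Q i v * θ v = (Nat.card R : ℂ) * ∑ a : Fin k, Pval (redLA M G (J a)) := by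
      rw [← Fintype.sum_of_injective ι (fun a b h => Subtype.ext (congrArg (fun q : Q => (q : G)) h))
        (fun v : R => gl f R i v * θ (ι v)) (fun v : Q => gl f Q i v * θ v) (fun v hv => by
          rw [hvan v fun h => hv ⟨⟨v, h⟩, rfl⟩, zero_mul]) fun v => rfl]
      simp only [hPval _ (hJ _), val, Finset.mul_sum, mul_inv_cancel_left₀
        (show (Nat.card R : ℂ) ≠ 0 from card_ne_zero')]
      rw [Finset.sum_comm]
      refine Finset.sum_congr rfl fun v _ => ?_
      rw [← Finset.sum_mul, ← Finset.sum_apply, ← gl_sum, hJi]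
    rw [hsum, ← hRc, Nat.cast_mul, mul_inv, ← mul_assoc, mul_assoc ((p : ℂ)⁻¹),
      inv_mul_cancel₀ (show (Nat.card R : ℂ) ≠ 0 from card_ne_zero'), mul_one,
      ← Finset.sum_fiberwise_of_maps_to
        (t := Finset.univ.image fun a : Fin k => Pval (redLA M G (J a)))
        (g := fun a : Fin k => Pval (redLA M G (J a))) (fun a _ => Finset.mem_image_of_mem _ (Finset.mem_univ a)),
      Finset.mul_sum]
    refine Subring.sum_mem _ fun v hv => ?_
    obtain ⟨a₀, -, ha₀⟩ := Finset.mem_image.mp hv
    rw [Finset.sum_congr rfl (g := fun _ => v) fun a ha => (Finset.mem_filter.mp ha).2, Finset.sum_const,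
      nsmul_eq_mul]
    obtain ⟨q, hq⟩ := hdvd v
    rw [hq, Nat.cast_mul, mul_assoc, inv_mul_cancel_left₀ (Nat.cast_ne_zero.mpr hp.out.ne_zero)]
    refine Subring.mul_mem _ (natCast_mem _ q) ?_
    rw [← ha₀, hPval _ (hJ a₀)]
    exact hvalmem _ (hJ a₀).idem (hJ a₀).inv

/-- A regular element commuting with `Q` acts on the pairing ring. -/
theorem shift_mem (hM : IsPModular p M) {f : G → ℂ} {Q : Subgroup G}
    (hf : ∀ i : LA M G, i * i = i → Inv Q i → gl f Q i ∈ pairingRing M Q) {h : G} (hh : ¬ p ∣ orderOf h)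
    (hc : ∀ v ∈ Q, Commute h v) : (fun v : Q => f ((v : G) * h)) ∈ pairingRing M Q := by
  obtain ⟨m, hm⟩ : ∃ m, m = orderOf h := ⟨_, rfl⟩
  have hm0 : m ≠ 0 := hm ▸ (orderOf_pos h).ne'
  have hprim := Complex.isPrimitiveRoot_exp m hm0
  set z := Complex.exp (2 * Real.pi * Complex.I / m)
  have hzint : IsIntegral ℤ z := IsIntegral.of_pow (Nat.pos_of_ne_zero hm0) (by simp only [hprim.pow_eq_one]; exact isIntegral_one)
  have hzint' : IsIntegral ℤ z⁻¹ := IsIntegral.of_pow (Nat.pos_of_ne_zero hm0)
    (by simp only [inv_pow, hprim.pow_eq_one, _root_.inv_one]; exact isIntegral_one)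
  let ζ : locRing M := ⟨z, algInt_le_locRing M hzint⟩
  let ω : locRing M := ⟨z⁻¹, algInt_le_locRing M hzint'⟩
  have hζω : ζ * ω = 1 := Subtype.ext (mul_inv_cancel₀ (hprim.ne_zero hm0))
  have hωm : ω ^ m = 1 := Subtype.ext (by
    show z⁻¹ ^ m = 1
    rw [inv_pow, hprim.pow_eq_one, _root_.inv_one])
  obtain ⟨minv, hminv⟩ : ∃ minv : locRing M, (m : locRing M) * minv = 1 := by
    refine IsUnit.exists_right_inv ((isUnit_iff_res_ne_zero M _).mpr ?_)
    rw [map_natCast]
    have : CharP (Res M) p := res_charP M hM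
    exact fun h0 => hh (hm ▸ (CharP.cast_eq_zero_iff (Res M) p m).mp h0)
  let S : LA M G := MonoidAlgebra.single h 1
  have hSm : S ^ m = 1 := by
    rw [MonoidAlgebra.single_pow, hm, pow_orderOf_eq_one, one_pow, MonoidAlgebra.one_def]
  let E : ℕ → LA M G := fun i => ∑ j ∈ Finset.range m, (minv * (ω ^ i) ^ j) • S ^ j
  have hshift : ∀ i, S * E i = ζ ^ i • E i := by
    intro i
    have hper : (minv * (ω ^ i) ^ m) • S ^ m = (minv * (ω ^ i) ^ 0) • S ^ 0 := by
      rw [hSm, pow_zero, pow_zero, ← pow_mul, mul_comm i, pow_mul, hωm, one_pow]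
    have hsh : ∑ j ∈ Finset.range m, (minv * (ω ^ i) ^ (j + 1)) • S ^ (j + 1) = E i := by
      have h1 := Finset.sum_range_succ (fun j => (minv * (ω ^ i) ^ j) • S ^ j) m
      have h2 := Finset.sum_range_succ' (fun j => (minv * (ω ^ i) ^ j) • S ^ j) m
      rw [h1, hper] at h2
      exact (add_right_cancel h2).symm
    conv_rhs => rw [← hsh, Finset.smul_sum]
    simp only [E, Finset.mul_sum]
    refine Finset.sum_congr rfl fun j _ => ?_
    rw [mul_smul_comm, ← pow_succ', smul_smul]
    congr 1
    rw [pow_succ (ω ^ i) j, mul_left_comm, mul_comm ((ω ^ i) ^ j) (ω ^ i), ← mul_assoc (ζ ^ i),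
      ← mul_pow ζ ω, hζω, one_pow, one_mul]
  have hidem : ∀ i, E i * E i = E i := by
    intro i
    have hpow : ∀ j, S ^ j * E i = (ζ ^ i) ^ j • E i := fun j => by
      induction j with
      | zero => rw [pow_zero, pow_zero, one_mul, one_smul]
      | succ j ihj => rw [pow_succ, mul_assoc, hshift, mul_smul_comm, ihj, smul_smul, ← pow_succ']
    conv_lhs => arg 1; simp only [E]
    rw [Finset.sum_mul, Finset.sum_congr rfl (g := fun _ => minv • E i) fun j _ => ?_, Finset.sum_const,
      Finset.card_range, ← Nat.cast_smul_eq_nsmul (locRing M), smul_smul, hminv, one_smul]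
    rw [smul_mul_assoc, hpow, smul_smul, mul_assoc, ← mul_pow, ← mul_pow ω ζ, mul_comm ω, hζω, one_pow,
      one_pow, mul_one]
  have hone : ∑ i ∈ Finset.range m, E i = 1 := by
    simp only [E]
    rw [Finset.sum_comm, Finset.sum_eq_single 0]
    · simp only [pow_zero, mul_one, Finset.sum_const, Finset.card_range, ← Nat.cast_smul_eq_nsmul (locRing M),
        smul_smul, hminv, one_smul]
    · intro j hj hj0
      rw [← Finset.sum_smul, ← Finset.mul_sum]
      have hgeo : ∑ i ∈ Finset.range m, (ω ^ j) ^ i = 0 := by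
        have hne : z⁻¹ ^ j ≠ 1 := fun h1 => by
          rw [inv_pow, inv_eq_one] at h1
          exact absurd (Nat.le_of_dvd (Nat.pos_of_ne_zero hj0) (hprim.dvd_of_pow_eq_one j h1))
            (not_le.mpr (Finset.mem_range.mp hj))
        have h1 : (ω ^ j - 1) * ∑ i ∈ Finset.range m, (ω ^ j) ^ i = 0 := by
          rw [mul_geom_sum, ← pow_mul, mul_comm j, pow_mul, hωm, one_pow, sub_self]
        exact (mul_eq_zero.mp h1).resolve_left (sub_ne_zero.mpr fun h2 => hne (congrArg Subtype.val h2))
      rw [Finset.sum_congr rfl fun i _ => pow_right_comm ω i j, hgeo, mul_zero, zero_smul]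
    · exact fun h0 => absurd (Finset.mem_range.mpr (Nat.pos_of_ne_zero hm0)) h0
  have hEQ : ∀ i, Inv Q (E i) := fun i v hv => Commute.sum_left _ _ _ fun j _ =>
    Commute.smul_left (Commute.pow_left (by
      show MonoidAlgebra.single h (1 : locRing M) * MonoidAlgebra.single v 1 = _
      rw [MonoidAlgebra.single_mul_single, MonoidAlgebra.single_mul_single, (hc v hv).eq]) j) _
  have hfun : (fun v : Q => f ((v : G) * h)) =
      ∑ i ∈ Finset.range m, constHom M Q (ζ ^ i) * gl f Q (E i) := by
    funext v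
    have hS : MonoidAlgebra.single ((v : G) * h) (1 : locRing M) =
        ∑ i ∈ Finset.range m, ζ ^ i • (MonoidAlgebra.single (v : G) 1 * E i) := by
      simp only [← mul_smul_comm, ← hshift, ← Finset.mul_sum, hone, mul_one, S,
        MonoidAlgebra.single_mul_single]
    have h1 : f ((v : G) * h) = charLin f (toCA M G (MonoidAlgebra.single ((v : G) * h) 1)) := by
      rw [toCA_single, charLin_single, one_mul]
    rw [h1, hS, map_sum, map_sum, Finset.sum_apply]
    refine Finset.sum_congr rfl fun i _ => ?_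
    show charLin f (toCA M G (ζ ^ i • _)) = ((ζ ^ i : locRing M) : ℂ) * _
    simp only [gl, charLin_apply, Finset.mul_sum, coeff_toCA, MonoidAlgebra.coeff_smul, Finsupp.smul_apply,
      smul_eq_mul, Subring.coe_mul, mul_assoc]
  rw [hfun]
  exact Subring.sum_mem _ fun i _ => Subring.mul_mem _ (const_mem_pairingRing _) (hf _ (hidem i) (hEQ i))

/-- **The inner products of the twist are local integers.** -/
theorem Twist.classInner_mem (T : Twist M p B P e l) (χ η : IrrCharacter G) :
    classInner (star M p B P e l χ) (η : G → ℂ) ∈ locRing M := by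
  set f := star M p B P e l χ
  have hF : IsClassFunction G fun g => conj (f g * conj ((η : G → ℂ) g)) := fun a b => by
    show conj _ = conj _
    rw [show f (b * a * b⁻¹) = f a from T.isClassFunction_star χ a b, isClassFunction_of_isIrr η.2 a b]
  suffices key : ∀ φ ∈ linSpan G, (Nat.card G : ℂ)⁻¹ * ∑ g : G, φ g * (f g * conj ((η : G → ℂ) g)) ∈ locRing M by
    have := key _ one_mem_linSpan
    simpa [classInner_def] using this
  intro φ hφ
  induction hφ using AddSubgroup.closure_induction with
  | zero => simp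
  | add a b _ _ ha hb =>
    simp only [Pi.add_apply, add_mul, Finset.sum_add_distrib, mul_add]
    exact Subring.add_mem _ ha hb
  | neg a _ ha =>
    simp only [Pi.neg_apply, neg_mul, Finset.sum_neg_distrib, mul_neg]
    exact Subring.neg_mem _ ha
  | mem φ hφ =>
    obtain ⟨E, lam, ⟨q, hq, hE⟩, rfl⟩ := hφ
    have h1 : (Nat.card G : ℂ)⁻¹ * ∑ g : G, indFun E (fun e => (lam e : ℂ)) g * (f g * conj ((η : G → ℂ) g)) =
        (Nat.card E : ℂ)⁻¹ * ∑ e : E, (lam e : ℂ) * (f e * conj ((η : G → ℂ) e)) := by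
      have := frobenius_reciprocity E (fun e => (lam e : ℂ)) hF
      simpa [classInner_def] using this
    rw [h1]
    obtain ⟨K, hKn, ⟨j, hKi⟩, hK⟩ := exists_regular_subgroup (p := p) hq hE
    have hnil := isNilpotent_of_isElementary hq hE
    let Q : Sylow p E := default
    have hQn : (Q : Subgroup E).Normal :=
      (Group.isNilpotent_of_finite_tfae.out 0 3 rfl rfl).mp hnil p hp Q
    have hKp : ¬ p ∣ Nat.card K := fun hd => by
      obtain ⟨g, hg⟩ := exists_prime_orderOf_dvd_card' p hd
      exact (hK g).mp g.2 (by rw [Subgroup.orderOf_coe, hg])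
    have hdis : Disjoint (Q : Subgroup E) K := by
      rw [Subgroup.disjoint_def]
      intro g hgQ hgK
      obtain ⟨t, ht⟩ := IsPGroup.iff_orderOf.mp Q.2 ⟨g, hgQ⟩
      rw [Subgroup.orderOf_mk] at ht
      rcases Nat.eq_zero_or_pos t with h0 | h0
      · rw [h0, pow_zero] at ht; exact orderOf_eq_one_iff.mp ht
      · exact absurd (ht ▸ dvd_pow_self p h0.ne') ((hK g).mp hgK)
    have hcard : Nat.card (Q : Subgroup E) * Nat.card K = Nat.card E := by
      rw [Q.card_eq_multiplicity, ← K.card_mul_index, hKi,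
        Nat.factorization_mul Nat.card_pos.ne' (pow_ne_zero _ hp.out.ne_zero), Finsupp.add_apply,
        Nat.factorization_eq_zero_of_not_dvd hKp, zero_add, hp.out.factorization_pow, Finsupp.single_eq_same,
        mul_comm]
    have hbij : Function.Bijective fun z : ↥(Q : Subgroup E) × K => (z.1 : E) * (z.2 : E) :=
      (Nat.bijective_iff_injective_and_card _).mpr
        ⟨fun a b hab => Subgroup.mul_injective_of_disjoint hdis hab, by rw [Nat.card_prod, hcard]⟩
    rw [← Fintype.sum_bijective _ hbij _ _ (fun _ => rfl), Fintype.sum_prod_type, Finset.sum_comm,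
      show (Nat.card E : ℂ)⁻¹ = (Nat.card K : ℂ)⁻¹ * (Nat.card (Q : Subgroup E) : ℂ)⁻¹ by
        rw [← mul_inv, ← Nat.cast_mul, mul_comm (Nat.card K), hcard], mul_assoc, Finset.mul_sum]
    have hKinv : (Nat.card K : ℂ)⁻¹ ∈ locRing M := by
      have : CharP (Res M) p := res_charP M T.hM
      obtain ⟨w, hw⟩ := IsUnit.exists_right_inv ((isUnit_iff_res_ne_zero M (Nat.card K : locRing M)).mpr (by
        rw [map_natCast]; exact fun h0 => hKp ((CharP.cast_eq_zero_iff (Res M) p _).mp h0)))
      have h2 : (Nat.card K : ℂ) * (w : ℂ) = 1 := by simpa using congrArg Subtype.val hw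
      rw [inv_eq_of_mul_eq_one_right h2]
      exact w.2
    refine Subring.mul_mem _ hKinv (Subring.sum_mem _ fun k _ => ?_)
    -- on `Q` times a regular element
    set Q' : Subgroup G := (Q : Subgroup E).map E.subtype with hQ'
    let ε : (Q : Subgroup E) ≃* Q' := Subgroup.equivMapOfInjective _ _ E.subtype_injective
    have hεv : ∀ v : (Q : Subgroup E), ((ε v : Q') : G) = ((v : E) : G) := fun v => rfl
    have hQ'p : IsPGroup p Q' := Q.2.map _
    have hkreg : ¬ p ∣ orderOf ((k : E) : G) := by rw [Subgroup.orderOf_coe]; exact (hK k).mp k.2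
    have hcomm : ∀ v ∈ Q', Commute ((k : E) : G) v := by
      rintro _ ⟨w, hw, rfl⟩
      exact (Subgroup.commute_of_normal_of_disjoint _ _ hKn hQn hdis.symm (k : E) w k.2 hw).map E.subtype
    have hmf := shift_mem T.hM (T.gl_mem χ Q' hQ'p) hkreg hcomm
    have hmη := shift_mem T.hM (f := fun g => conj ((η : G → ℂ) g)) (fun i hi hiQ => char_mem_pairingRing
      (isCharacter_gl (isCharacter_conj (isCharacter_of_isIrr η.2)) hi hiQ)) hkreg hcomm
    have hθ : IsCharacter Q' fun v => (lam ((ε.symm v : (Q : Subgroup E)) : E) : ℂ) :=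
      (isCharacter_linFun (lam.comp ((Q : Subgroup E).subtype.comp ε.symm.toMonoidHom))).1
    have h3 := Subring.mul_mem _ (algInt_le_locRing M (char_isIntegral (isCharacter_linFun lam).1 (k : E)))
      ((Subring.mul_mem _ hmf hmη).2 _ hθ)
    rw [Nat.card_congr ε.symm.toEquiv, ← Fintype.sum_equiv ε.toEquiv _ _ (fun _ => rfl), Finset.mul_sum,
      Finset.mul_sum] at h3
    rw [Finset.mul_sum]
    convert h3 using 1
    refine Finset.sum_congr rfl fun v _ => ?_
    simp only [Pi.mul_apply, MulEquiv.toEquiv_eq_coe, EquivLike.coe_coe, MulEquiv.symm_apply_apply, map_mul,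
      Units.val_mul, Subgroup.coe_mul, hεv]
    show _ = (lam (k : E) : ℂ) * _
    ring

end CfsgLib.Star
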