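import Cfsg.Agent.Lib.Star.Norm
import Cfsg.Agent.Lib.Blocks.SimpleTrace

/-!
# The twist of a character of the block is a character of the block

* `Twist.change`, `Twist.star_indep`: independence of the maximal ideal;
* `Twist.isIntegral_classInner`: the inner products are algebraic integers;
* `Twist.exists_irr`: the twist is an irreducible character of the block, of the same degree.
-/

set_option autoImplicit false

noncomputable section

namespace CfsgLib.Star

open Cfsg CfsgLib.Blocks CfsgLib.BlockArith CfsgLib.Char CfsgLib.BrauerPairs CfsgLib.NilBlock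
open scoped ComplexConjugate Classical

attribute [local instance] CfsgLib.Blocks.resField

universe u

variable {G : Type u} [Group G] [Fintype G] {M : Ideal AlgInt} [M.IsMaximal] {p : ℕ} [hp : Fact p.Prime]
  {B : Set (IrrCharacter G)} {P : Subgroup G} {e : Set (IrrCharacter (Cen P))} {l : P →* ℂˣ}

omit [M.IsMaximal] hp in
theorem Twist.change (T : Twist M p B P e l) {M' : Ideal AlgInt} (hM' : IsPModular p M') :
    Twist M' p B P e l :=
  { hM := hM'
    hmax := (maximalPair_indep T.hM hM').mp T.hmax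
    stable := fun g v w f h1 h2 h3 => T.stable g v w f ((subpairLE_indep T.hM hM' _ _ _ _).mpr h1) h2
      (by rwa [normalSubpairRel_indep T.hM hM']) }

omit [M.IsMaximal] in
theorem star_indep {M' : Ideal AlgInt} (hM : IsPModular p M) (hM' : IsPModular p M') :
    star M p B P e l = star M' p B P e l := by
  funext χ g
  simp only [star, starAt, pairsAt, lamVal, brauerPairOf_indep hM hM', normalSubpairRel_indep hM hM']

theorem Twist.isIntegral_classInner (T : Twist M p B P e l) (χ η : IrrCharacter G) :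
    IsIntegral ℤ (classInner (star M p B P e l χ) (η : G → ℂ)) := by
  refine isIntegral_of_local hp.out (n := (Nat.card G).factorization p) ?_ fun M' hM' => ?_
  · obtain ⟨X, hX, hXrep⟩ := exists_reps (G := G) (p := p)
    rw [T.classInner_eq η hX hXrep, Finset.mul_sum]
    refine IsIntegral.sum _ fun x _ => ?_
    have := Fintype.ofFinite {b : Set (IrrCharacter (Cen (Subgroup.zpowers x))) // IsPBlock M b}
    rw [finsum_eq_sum_of_fintype, Finset.mul_sum]
    refine IsIntegral.sum _ fun b _ => ?_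
    have hd : blockDefect p b.1 ≤ (Nat.card G).factorization p :=
      (Nat.sub_le _ _).trans ((Nat.factorization_le_iff_dvd Nat.card_pos.ne' Nat.card_pos.ne').mpr
        (Subgroup.card_subgroup_dvd_card _) p)
    have h0 : ((p ^ blockDefect p b.1 : ℕ) : ℂ) ≠ 0 := Nat.cast_ne_zero.mpr (pow_ne_zero _ hp.out.ne_zero)
    rw [mul_left_comm, show (p : ℂ) ^ (Nat.card G).factorization p = ((p ^ ((Nat.card G).factorization p -
        blockDefect p b.1) : ℕ) : ℂ) * ((p ^ blockDefect p b.1 : ℕ) : ℂ) by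
      rw [← Nat.cast_mul, ← pow_add, Nat.sub_add_cancel hd, Nat.cast_pow]]
    refine (T.wt_integral x b.1).mul ?_
    rw [mul_comm (ctr p x _ b.1 χ η), mul_assoc, mul_inv_cancel_left₀ h0]
    exact (isIntegral_algebraMap (x := ((p ^ ((Nat.card G).factorization p - blockDefect p b.1) : ℕ) : ℤ))).mul
      (isIntegral_ctr (cen_zpowers x) T.hM b.2 χ η)
  · have : M'.IsMaximal := hM'.2.1
    have := res_isAlgClosed M'
    rw [star_indep T.hM hM']
    exact (T.change hM').classInner_mem χ η

theorem Twist.star_apply_one (T : Twist M p B P e l) {χ : IrrCharacter G} (hχ : χ ∈ B) :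
    star M p B P e l χ 1 = (χ : G → ℂ) 1 := by
  have hx : ∃ k : ℕ, orderOf (1 : G) = p ^ k := ⟨0, by simp⟩
  have hs : ¬ p ∣ orderOf (1 : G) := by rw [orderOf_one]; exact hp.out.not_dvd_one
  have hrw : (1 : G) = 1 * 1 := (one_mul 1).symm
  rw [hrw, star_mul hx hs (Commute.refl _), starAt,
    ← sum_secG T.hM T.hmax.1.2.1 hχ hx hs (Commute.refl _)]
  refine Finset.sum_congr rfl fun a ha => ?_
  obtain ⟨g, hm, hle⟩ := T.exists_witness ha
  obtain ⟨hx', hB'⟩ := mem_pairsAt.mp ha
  have h1 : (⟨g * 1 * g⁻¹, hm⟩ : P) = 1 := Subtype.ext (show g * 1 * g⁻¹ = (1 : G) by group)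
  rw [T.lamVal_eq hB'.1 hx' hm hle, h1, map_one, Units.val_one, one_mul]

theorem Twist.exists_irr (T : Twist M p B P e l) {χ : IrrCharacter G} (hχ : χ ∈ B) :
    ∃ η : IrrCharacter G, η ∈ B ∧ star M p B P e l χ = (η : G → ℂ) := by
  have hexp : star M p B P e l χ =
      ∑ η : IrrCharacter G, classInner (star M p B P e l χ) (η : G → ℂ) • (η : G → ℂ) :=
    classFun_eq_sum (T.isClassFunction_star χ)
  set c : IrrCharacter G → ℂ := fun η => classInner (star M p B P e l χ) (η : G → ℂ)
  have hsq : ∑ η, c η * conj (c η) = 1 := by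
    rw [← T.norm_one hχ]
    nth_rw 1 [hexp]
    rw [classInner_sum_left]
    exact Finset.sum_congr rfl fun η _ => by rw [classInner_smul_left, classInner_conj_symm]
  have hnorm : ∀ σ : ℂ ≃+* ℂ, ∑ η, Complex.normSq (σ (c η)) = 1 := by
    intro σ
    apply Complex.ofReal_injective
    have h := congrArg σ hsq
    rw [map_one, map_sum] at h
    rw [Complex.ofReal_sum, Complex.ofReal_one, ← h]
    refine Finset.sum_congr rfl fun η _ => ?_
    rw [map_mul, show σ (conj (c η)) = conj (σ (c η)) from T.classInner_conjCommute σ η, Complex.mul_conj]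
  have hint : ∀ η, IsIntegral ℤ (c η * conj (c η)) := fun η =>
    (T.isIntegral_classInner χ η).mul (map_isIntegral_int (starRingEnd ℂ) (T.isIntegral_classInner χ η))
  have huniq : ∀ η₁ η₂, c η₁ ≠ 0 → c η₂ ≠ 0 → η₁ = η₂ := by
    intro η₁ η₂ n₁ n₂
    by_contra hne
    have hσ : ∀ (σ : ℂ ≃+* ℂ), σ ((c η₁ * conj (c η₁)) * (c η₂ * conj (c η₂))) =
        ((Complex.normSq (σ (c η₁)) * Complex.normSq (σ (c η₂)) : ℝ) : ℂ) := fun σ => by
      rw [map_mul, map_mul, map_mul, show σ (conj (c η₁)) = conj (σ (c η₁)) from T.classInner_conjCommute σ η₁,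
        show σ (conj (c η₂)) = conj (σ (c η₂)) from T.classInner_conjCommute σ η₂, Complex.mul_conj,
        Complex.mul_conj, Complex.ofReal_mul]
    obtain ⟨σ, h⟩ := exists_conjugate_ge_one ((hint η₁).mul (hint η₂))
      (mul_ne_zero (mul_ne_zero n₁ ((map_ne_zero _).mpr n₁)) (mul_ne_zero n₂ ((map_ne_zero _).mpr n₂)))
      (fun σ => ⟨_, mul_nonneg (Complex.normSq_nonneg _) (Complex.normSq_nonneg _), hσ σ⟩)
    rw [hσ, Complex.ofReal_re] at h
    have h2 := Finset.add_le_sum (f := fun η => Complex.normSq (σ (c η))) (s := Finset.univ)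
      (fun η _ => Complex.normSq_nonneg _) (Finset.mem_univ η₁) (Finset.mem_univ η₂) hne
    rw [hnorm σ] at h2
    nlinarith [Complex.normSq_nonneg (σ (c η₁)), Complex.normSq_nonneg (σ (c η₂)),
      sq_nonneg (Complex.normSq (σ (c η₁)) - Complex.normSq (σ (c η₂)))]
  obtain ⟨η, hη⟩ : ∃ η, c η ≠ 0 := by
    by_contra! h
    rw [Finset.sum_eq_zero fun η _ => by rw [h η, zero_mul]] at hsq
    exact zero_ne_one hsq
  have hother : ∀ η', η' ≠ η → c η' = 0 := fun η' hne => by
    by_contra h
    exact hne (huniq _ _ h hη)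
  have hfun : star M p B P e l χ = c η • (η : G → ℂ) := hexp.trans
    (Finset.sum_eq_single η (fun η' _ hne => by rw [show classInner (star M p B P e l χ) (η' : G → ℂ) = 0 from
      hother η' hne, zero_smul]) fun h => absurd (Finset.mem_univ _) h)
  have hn : c η * conj (c η) = 1 := by
    rwa [Finset.sum_eq_single η (fun η' _ hne => by rw [hother η' hne, zero_mul])
      fun h => absurd (Finset.mem_univ _) h] at hsq
  refine ⟨η, by_contra fun hB => hη (T.classInner_eq_zero hB), ?_⟩
  have hpos := CfsgLib.CharBlocks.charDegree_pos η.2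
  have hdeg : c η * (charDegree (η : G → ℂ) : ℂ) = (charDegree (χ : G → ℂ) : ℂ) := by
    rw [CfsgLib.CharBlocks.coe_charDegree_irr, CfsgLib.CharBlocks.coe_charDegree_irr, ← T.star_apply_one hχ,
      hfun, Pi.smul_apply, smul_eq_mul]
  obtain ⟨r, hr0, hr⟩ : ∃ r : ℝ, 0 ≤ r ∧ c η = (r : ℂ) := by
    refine ⟨(charDegree (χ : G → ℂ) : ℝ) / (charDegree (η : G → ℂ) : ℝ), by positivity, ?_⟩
    push_cast
    rw [eq_div_iff (Nat.cast_ne_zero.mpr hpos.ne'), hdeg]
  rw [hr, Complex.conj_ofReal, ← Complex.ofReal_mul, Complex.ofReal_eq_one] at hn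
  have hr1 : r = 1 := by nlinarith
  rw [hfun, hr, hr1, Complex.ofReal_one, one_smul]

end CfsgLib.Star
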