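import Cfsg.Agent.Lib.BrauerPairs.SubsectionCount
import Cfsg.Agent.Lib.BrauerPairs.Correspondence
import Cfsg.Agent.Lib.BlockArith.KleinDefect

/-!
# The ranks of the blocks below an abelian maximal pair

* `rankBelow`: the rank of the block of the pair on `Q` below `(P, e)`;
* `rankBelow_congr`: it depends on the centralizer only;
* `exists_local_pair`: the transfer to the centralizer of a subgroup of `P`.
-/

set_option autoImplicit false

noncomputable section

namespace CfsgLib.Star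

open Cfsg CfsgLib.Blocks CfsgLib.BrauerPairs
open scoped Classical

universe u

variable {G : Type u} [Group G] [Fintype G] {M : Ideal AlgInt} [M.IsMaximal] {p : ℕ}
  {B : Set (IrrCharacter G)} {P : Subgroup G} {e : Set (IrrCharacter (Cen P))}

theorem cen_sup_eq (A C : Subgroup G) : Cen (A ⊔ C) = Cen A ⊓ Cen C := by
  refine le_antisymm (le_inf (centralizer_anti le_sup_left) (centralizer_anti le_sup_right)) fun z hz => ?_
  refine Subgroup.mem_centralizer_iff.mpr fun y hy => ?_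
  refine Subgroup.mem_centralizer_singleton_iff.mp ((sup_le
    (fun w hw => Subgroup.mem_centralizer_singleton_iff.mpr (Subgroup.mem_centralizer_iff.mp hz.1 w hw))
    (fun w hw => Subgroup.mem_centralizer_singleton_iff.mpr (Subgroup.mem_centralizer_iff.mp hz.2 w hw)) :
      A ⊔ C ≤ Subgroup.centralizer ({z} : Set G)) hy)

theorem blockRank_eq_of_gidem_mul {H H' : Subgroup G} (h : H = H') {b : Set (IrrCharacter H)}
    {b' : Set (IrrCharacter H')} (hb : IsPBlock M b) (hb' : IsPBlock M b')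
    (hne : gidem M H b * gidem M H' b' ≠ 0) : blockRank p b = blockRank p b' := by
  subst h
  by_contra hc
  exact hne (gidem_mul_of_ne hb hb' fun hbb => hc (congrArg (blockRank p) hbb))

variable (M p P e) in
/-- The rank of the block of the pair on `Q` below `(P, e)`. -/
def rankBelow (Q : Subgroup G) : ℕ :=
  if h : ∃ f, SubpairLE p M Q f P e then blockRank p h.choose else 0

variable [hp : Fact p.Prime]

theorem rankBelow_eq (hM : IsPModular p M) (hP : IsBrauerPair p M P e) {Q : Subgroup G}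
    {f : Set (IrrCharacter (Cen Q))} (hle : SubpairLE p M Q f P e) :
    rankBelow M p P e Q = blockRank p f := by
  have h : ∃ f, SubpairLE p M Q f P e := ⟨f, hle⟩
  rw [rankBelow, dif_pos h, subpair_eq hM hP h.choose_spec hle]

theorem rankBelow_congr_le (hM : IsPModular p M) (hP : IsBrauerPair p M P e)
    (hab : ∀ x ∈ P, ∀ y ∈ P, x * y = y * x) {Q R : Subgroup G} (hR : R ≤ P) (hQR : Q ≤ R)
    (hC : Cen Q = Cen R) : rankBelow M p P e Q = rankBelow M p P e R := by
  obtain ⟨g, hg, -⟩ := existsUnique_subpair hM hR hP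
  obtain ⟨f, hf, -⟩ := existsUnique_subpair hM (hQR.trans hR) hP
  rw [rankBelow_eq hM hP hf, rankBelow_eq hM hP hg]
  have hgp := isBrauerPair_left (a := ⟨R, g⟩) hg hP
  have hfp := isBrauerPair_left (a := ⟨Q, f⟩) hf hP
  obtain ⟨f', hf', -⟩ := existsUnique_subpair hM hQR hgp
  obtain rfl : f = f' := subpair_eq hM hP hf (Relation.ReflTransGen.trans hf' hg)
  have hRQ : R ≤ Subgroup.normalizer (Q : Set G) := (show R ≤ Cen Q from fun r hr =>
    Subgroup.mem_centralizer_iff.mpr fun q hq => hab q (hR (hQR hq)) r (hR hr)).trans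
      (Subgroup.centralizer_le_normalizer _)
  obtain ⟨-, -, -, -, -, hocc⟩ := (normalSubpair_iff hM).mp (normal_of_subpair hM hgp hf' hRQ)
  refine blockRank_eq_of_gidem_mul hC hfp.2 hgp.2 fun h0 => gidem_ne_zero hgp.2 ?_
  have hbr : br R (gidem M (Cen Q) f) = gidem M (Cen Q) f := by
    refine ext_coeff fun x => ?_
    rw [coeff_br]
    split_ifs with hx
    · rfl
    · rw [gidem_eq_emb hfp.2, coeff_emb_of_notMem _ _ (by show x ∉ Cen Q; rw [hC]; exact hx)]
  calc gidem M (Cen R) g = br R (gidem M (Cen Q) f) * gidem M (Cen R) g := hocc.symm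
    _ = 0 := by rw [hbr, h0]

theorem rankBelow_congr (hM : IsPModular p M) (hP : IsBrauerPair p M P e)
    (hab : ∀ x ∈ P, ∀ y ∈ P, x * y = y * x) {Q Q' : Subgroup G} (hQ : Q ≤ P) (hQ' : Q' ≤ P)
    (hC : Cen Q = Cen Q') : rankBelow M p P e Q = rankBelow M p P e Q' := by
  rw [rankBelow_congr_le hM hP hab (R := Q ⊔ Q') (sup_le hQ hQ') le_sup_left (by rw [cen_sup_eq, hC, inf_idem]),
    rankBelow_congr_le hM hP hab (R := Q ⊔ Q') (sup_le hQ hQ') le_sup_right (by rw [cen_sup_eq, hC, inf_idem])]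

theorem rankBelow_central (hM : IsPModular p M) (hmax : IsMaximalBrauerPair p M B P e) {Q : Subgroup G}
    (hQ : Q ≤ P) (hC : Cen Q = ⊤) : rankBelow M p P e Q = blockRank p B := by
  obtain ⟨f, hf, -⟩ := existsUnique_subpair hM hQ hmax.1.1
  rw [rankBelow_eq hM hmax.1.1 hf, pairRank_top hC ((brauerPairOf_iff_of_subpair hM (a := ⟨Q, f⟩)
    (b := ⟨P, e⟩) hf).mp hmax.1)]

/-- The maximal pair of the block of `C(Q₀)` below `(P, e)`. -/
theorem exists_local_pair (hM : IsPModular p M) (hmax : IsMaximalBrauerPair p M B P e)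
    (hab : ∀ x ∈ P, ∀ y ∈ P, x * y = y * x) {Q₀ : Subgroup G} [Fintype (Cen Q₀)]
    {f : Set (IrrCharacter (Cen Q₀))} (hf : SubpairLE p M Q₀ f P e) :
    ∃ e' : Set (IrrCharacter (Cen (P.subgroupOf (Cen Q₀)))),
      IsMaximalBrauerPair p M f (P.subgroupOf (Cen Q₀)) e' ∧
      (∀ y ∈ stab M (P.subgroupOf (Cen Q₀)) e', (y : G) ∈ stab M P e) ∧
      (∀ y : Cen Q₀, (y : G) ∈ stab M P e → y ∈ stab M (P.subgroupOf (Cen Q₀)) e') ∧
      ∀ A ≤ P.subgroupOf (Cen Q₀), rankBelow M p (P.subgroupOf (Cen Q₀)) e' A =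
        rankBelow M p P e (A.map (Cen Q₀).subtype ⊔ Q₀) := by
  have hP := hmax.1.1
  have hQP : Q₀ ≤ P := subgroup_le (a := ⟨Q₀, f⟩) (b := ⟨P, e⟩) hf
  have hPC : ∀ R : Subgroup G, R ≤ P → P ≤ Cen R := fun R hR y hy =>
    Subgroup.mem_centralizer_iff.mpr fun q hq => hab q (hR hq) y hy
  have hPH : P ≤ (Cen Q₀) := hPC Q₀ hQP
  have hfp := isBrauerPair_left (a := ⟨Q₀, f⟩) hf hP
  have hmP : (P.subgroupOf (Cen Q₀)).map (Cen Q₀).subtype = P := Subgroup.map_subgroupOf_eq_of_le hPH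
  have hCP : (Cen (P.subgroupOf (Cen Q₀))).map (Cen Q₀).subtype = Cen P := by
    rw [map_cen_subtype _ (by rw [hmP]; exact centralizer_anti hQP), hmP]
  obtain ⟨e', he', hue⟩ := exists_down (M := M) hp (b := ⟨P, e⟩) hCP hP.2
  have he'p : IsBrauerPair p M (P.subgroupOf (Cen Q₀)) e' :=
    ⟨hP.1.of_equiv (Subgroup.subgroupOfEquivOfLe hPH).symm, he'⟩
  have hn : NormalSubpairRel p M ⟨Q₀, f⟩ ⟨P, e⟩ :=
    normal_of_subpair hM hP hf (hPH.trans (Subgroup.centralizer_le_normalizer _))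
  obtain ⟨-, -, -, -, -, hocc⟩ := (normalSubpair_iff hM).mp hn
  have hBe : IsBrauerPairOf p M f (P.subgroupOf (Cen Q₀)) e' := by
    refine (brauerPairOf_iff hM).mpr ⟨he'p, hfp.2, ?_⟩
    apply emb_injective (Cen Q₀)
    show emb (Cen Q₀) (br (P.subgroupOf (Cen Q₀)) (gidemTop M f) * pid M (⟨P.subgroupOf (Cen Q₀), e'⟩ : BrauerPairIdx (Cen Q₀))) =
      emb (Cen Q₀) (pid M (⟨P.subgroupOf (Cen Q₀), e'⟩ : BrauerPairIdx (Cen Q₀)))
    rw [map_mul, emb_br (fun z => cen_iff_map hCP z), ← hue.pid_eq, gidemTop_eq hfp.2, ← gidem_eq_emb hfp.2]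
    exact hocc
  have hmax' : IsMaximalBrauerPair p M f (P.subgroupOf (Cen Q₀)) e' :=
    isMaximal_of_card hM hBe (card_defectGroup hM hfp.2 (pairs_defect hM hmax hab hf)).ge
  refine ⟨e', hmax', fun y hy => ?_, fun y hy => ?_, fun A hA => ?_⟩
  · refine ⟨?_, ?_⟩
    · have h1 := Subgroup.le_normalizer_map (Cen Q₀).subtype ⟨y, hy.1, rfl⟩
      rwa [hmP] at h1
    · show cjA (y : G) (pid M (⟨P, e⟩ : BrauerPairIdx G)) = pid M (⟨P, e⟩ : BrauerPairIdx G)
      rw [hue.pid_eq, ← emb_cjA]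
      exact congrArg (emb (Cen Q₀)) hy.2
  · refine ⟨Subgroup.mem_set_normalizer_iff.mpr fun z => ?_, ?_⟩
    · show (z : G) ∈ P ↔ ((y * z * y⁻¹ : (Cen Q₀)) : G) ∈ P
      exact Subgroup.mem_set_normalizer_iff.mp hy.1 z
    · apply emb_injective (Cen Q₀)
      show emb (Cen Q₀) (cjA y (pid M (⟨P.subgroupOf (Cen Q₀), e'⟩ : BrauerPairIdx (Cen Q₀)))) =
        emb (Cen Q₀) (pid M (⟨P.subgroupOf (Cen Q₀), e'⟩ : BrauerPairIdx (Cen Q₀)))
      rw [emb_cjA, ← hue.pid_eq]
      exact hy.2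
  · have hab' : ∀ x ∈ P.subgroupOf (Cen Q₀), ∀ y ∈ P.subgroupOf (Cen Q₀), x * y = y * x := fun x hx y hy =>
      Subtype.ext (hab (x : G) hx (y : G) hy)
    set A' := A ⊔ Q₀.subgroupOf (Cen Q₀) with hA'
    have hQP' : Q₀.subgroupOf (Cen Q₀) ≤ P.subgroupOf (Cen Q₀) := fun z hz => hQP hz
    have hA'P : A' ≤ P.subgroupOf (Cen Q₀) := sup_le hA hQP'
    have hcen : Cen A = Cen A' := by
      rw [hA', cen_sup_eq, eq_comm, inf_eq_left]
      exact fun z _ => Subgroup.mem_centralizer_iff.mpr fun q hq =>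
        Subtype.ext (Subgroup.mem_centralizer_iff.mp z.2 _ hq)
    rw [rankBelow_congr hM he'p hab' hA hA'P hcen]
    have hmap : A'.map (Cen Q₀).subtype = A.map (Cen Q₀).subtype ⊔ Q₀ := by
      rw [hA', Subgroup.map_sup, Subgroup.map_subgroupOf_eq_of_le (hQP.trans hPH)]
    rw [← hmap]
    set Q := A'.map (Cen Q₀).subtype with hQ
    have hQleP : Q ≤ P := (Subgroup.map_mono hA'P).trans hmP.le
    have hCQ : (Cen A').map (Cen Q₀).subtype = Cen Q :=
      map_cen_subtype A' (centralizer_anti (le_sup_right.trans hmap.ge))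
    obtain ⟨g, hg, -⟩ := existsUnique_subpair hM hQleP hP
    have hgp := isBrauerPair_left (a := ⟨Q, g⟩) hg hP
    obtain ⟨b', hb', hub⟩ := exists_down (M := M) hp (b := ⟨Q, g⟩) hCQ hgp.2
    have hb'p : IsBrauerPair p M A' b' := ⟨he'p.1.to_le hA'P, hb'⟩
    have hn' := normal_down hM (normal_of_subpair hM hP hg
      ((hPC Q hQleP).trans (Subgroup.centralizer_le_normalizer _))) hub hue rfl hmP hb'p he'p
    rw [rankBelow_eq hM he'p (show SubpairLE p M A' b' (P.subgroupOf (Cen Q₀)) e' from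
      Relation.ReflTransGen.single hn'), rankBelow_eq hM hP hg]
    let ε : Cen A' ≃* Cen Q :=
      ((Cen A').equivMapOfInjective (Cen Q₀).subtype (Cen Q₀).subtype_injective).trans (MulEquiv.subgroupCongr hCQ)
    have := Fintype.ofFinite (Cen A')
    have := Fintype.ofFinite (Cen Q)
    rw [← blockRank_tblock ε b']
    refine blockRank_eq_of_gidem_mul rfl (isPBlock_tblock ε hb') hgp.2 ?_
    have h1 : gidem M (Cen Q) (tblock ε b') = emb (Cen Q₀) (gidem M (Cen A') b') := by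
      refine gidem_of_coeff _ _ hCQ _ _ fun k hk => ?_
      rw [← blockCoeff_tblock ε b' k]
      rfl
    have h2 : gidem M (Cen Q) g = emb (Cen Q₀) (gidem M (Cen A') b') := hub.pid_eq
    rw [h1, ← h2, gidem_mul_self hgp.2]
    exact gidem_ne_zero hgp.2

end CfsgLib.Star
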