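import Cfsg.Agent.Lib.Star.Action
import Cfsg.Agent.Lib.Star.Rank

/-!
# The trace of a twist on a block with abelian defect group

* `moveSub`: the subgroup generated by the `x⁻¹ t x t⁻¹` for `t` in the stabiliser of `(P, e)`;
* `eq_one_of_fixed_moveSub`: it meets the fixed points trivially;
* `sum_lin_rank`: the ranks of the orbits, weighted by a stable linear character;
* `card_mul_class_sum`: the ranks are equidistributed over the cosets of `moveSub`.
-/

set_option autoImplicit false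

noncomputable section

namespace CfsgLib.Star

open Cfsg CfsgLib.Blocks CfsgLib.BlockArith CfsgLib.Char CfsgLib.BrauerPairs CfsgLib.NilBlock
open scoped ComplexConjugate Classical

universe u

variable {G : Type u} [Group G] [Fintype G] {M : Ideal AlgInt} [M.IsMaximal] {p : ℕ} [hp : Fact p.Prime]
  {B : Set (IrrCharacter G)} {P : Subgroup G} {e : Set (IrrCharacter (Cen P))}

variable (M P e) in
/-- Generated by the displacements of the stabiliser. -/
def moveSub : Subgroup P :=
  Subgroup.closure {y : P | ∃ x : P, ∃ t ∈ stab M P e, (y : G) = (x : G)⁻¹ * (t * (x : G) * t⁻¹)}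

variable (M P e) in
/-- Representatives of the orbits of the stabiliser on `P`. -/
structure OrbitReps (R : Finset P) : Prop where
  rep : ∀ y : P, ∃ r ∈ R, ∃ t ∈ stab M P e, t * (y : G) * t⁻¹ = r
  uniq : ∀ r ∈ R, ∀ r' ∈ R, ∀ t ∈ stab M P e, t * ((r : P) : G) * t⁻¹ = ((r' : P) : G) → r = r'

omit hp in
theorem exists_orbitReps : ∃ R : Finset P, OrbitReps M P e R := by
  let s : Setoid P :=
    { r := fun y z => ∃ t ∈ stab M P e, t * (y : G) * t⁻¹ = z
      iseqv :=
        { refl := fun y => ⟨1, one_mem _, by group⟩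
          symm := fun ⟨t, ht, h⟩ => ⟨t⁻¹, inv_mem ht, by rw [← h]; group⟩
          trans := fun ⟨t, ht, h⟩ ⟨t', ht', h'⟩ => ⟨t' * t, mul_mem ht' ht, by rw [← h', ← h]; group⟩ } }
  refine ⟨Finset.univ.image fun y : P => (Quotient.mk s y).out, ⟨fun y => ?_, ?_⟩⟩
  · exact ⟨_, Finset.mem_image_of_mem _ (Finset.mem_univ y), s.iseqv.symm (Quotient.mk_out (s := s) y)⟩
  · intro r hr r' hr' t ht h
    obtain ⟨y, -, rfl⟩ := Finset.mem_image.mp hr
    obtain ⟨y', -, rfl⟩ := Finset.mem_image.mp hr'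
    have hmk : Quotient.mk s (Quotient.mk s y).out = Quotient.mk s (Quotient.mk s y').out :=
      Quotient.sound ⟨t, ht, h⟩
    rw [Quotient.out_eq, Quotient.out_eq] at hmk
    rw [hmk]

theorem twist_of_moveSub (hM : IsPModular p M) (hmax : IsMaximalBrauerPair p M B P e)
    (hab : ∀ x ∈ P, ∀ y ∈ P, x * y = y * x) {l : P →* ℂˣ} (hl : l ∈ killing (moveSub M P e)) :
    Twist M p B P e l :=
  { hM := hM
    hmax := hmax
    stable := fun g v w f hle hg hle' => by
      obtain ⟨t, ht, hts⟩ := exists_cen_mul_map hM hmax hab (a := ⟨Subgroup.zpowers (v : G), f⟩)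
        (Q := (Subgroup.zpowers (v : G)).map (MulAut.conj g).toMonoidHom)
        (f := conjBlock (Subgroup.zpowers (v : G)) g f) hle hle' (x := g) rfl
      have hc : t * (w : G) * t⁻¹ = (w : G) := by
        rw [← Subgroup.mem_centralizer_iff.mp ht (w : G) ⟨(v : G), Subgroup.mem_zpowers _, hg⟩,
          mul_inv_cancel_right]
      have h1 : l (v⁻¹ * w) = 1 := hl _ (Subgroup.subset_closure ⟨v, t * g, hts, by
        show (v : G)⁻¹ * (w : G) = _
        congr 1
        conv_lhs => rw [← hc, ← hg]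
        group⟩)
      rw [map_mul, map_inv, inv_mul_eq_one] at h1
      exact h1.symm }

omit [M.IsMaximal] hp [Fintype G] in
theorem mem_cen_self (hab : ∀ x ∈ P, ∀ y ∈ P, x * y = y * x) {x : G} (hx : x ∈ P) :
    x ∈ Subgroup.centralizer (P : Set G) :=
  Subgroup.mem_centralizer_iff.mpr fun y hy => hab y hy x hx

/-- The displacements meet the fixed points trivially. -/
theorem eq_one_of_fixed_moveSub (hM : IsPModular p M) (hmax : IsMaximalBrauerPair p M B P e)
    (hab : ∀ x ∈ P, ∀ y ∈ P, x * y = y * x) {w : P} (hw : w ∈ moveSub M P e)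
    (hfix : ∀ t ∈ stab M P e, t * (w : G) * t⁻¹ = w) : w = 1 := by
  have hF := blockFusion_spec hM hmax
  set A := (blockFusion hM hmax).autGroup P
  have := Fintype.ofFinite A
  have hA := autGroup_eq_map hM hF (Q := P) (f := e) Relation.ReflTransGen.refl
  have hcard : ¬ p ∣ Nat.card A := by
    obtain ⟨-, R, hR⟩ := isFullyAutomized_of_fullyNormalized hM hF (fullyNormalized_top (blockFusion hM hmax))
    have h0 : autInducedBy P P = ⊥ := by
      refine le_bot_iff.mp ((Subgroup.closure_le _).mpr ?_)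
      rintro α ⟨g, hg, hα⟩
      refine Subgroup.mem_bot.mpr (MulEquiv.ext fun x => Subtype.ext ?_)
      show ((α x : P) : G) = x
      rw [hα x, hab g hg x x.2, mul_inv_cancel_right]
    have h1 := R.not_dvd_index
    rw [hR, h0, Subgroup.bot_subgroupOf, Subgroup.index_bot] at h1
    exact h1
  let _ : CommGroup P := { (inferInstance : Group P) with
    mul_comm := fun a b => Subtype.ext (hab a a.2 b b.2) }
  let N : P →* P :=
    { toFun := fun x => ∏ α : A, (α : MulAut P) x
      map_one' := Finset.prod_eq_one fun α _ => map_one _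
      map_mul' := fun x y => by rw [← Finset.prod_mul_distrib]; exact Finset.prod_congr rfl fun α _ => map_mul _ x y }
  have hmem : ∀ t (ht : t ∈ stab M P e), P.normalizerMonoidHom ⟨t, ht.1⟩ ∈ A := fun t ht => by
    show _ ∈ (blockFusion hM hmax).autGroup P
    rw [hA]
    exact ⟨⟨t, ht.1⟩, ht, rfl⟩
  have hle : moveSub M P e ≤ N.ker := by
    refine (Subgroup.closure_le _).mpr ?_
    rintro y ⟨x, t, ht, hy⟩
    have hy' : y = x⁻¹ * (P.normalizerMonoidHom ⟨t, ht.1⟩) x := Subtype.ext hy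
    show N y = 1
    rw [hy', map_mul, map_inv, inv_mul_eq_one]
    exact (Fintype.prod_equiv (Equiv.mulRight (⟨_, hmem t ht⟩ : A))
      (fun α : A => (α : MulAut P) (P.normalizerMonoidHom ⟨t, ht.1⟩ x)) (fun α : A => (α : MulAut P) x)
      fun α => rfl).symm
  have hNw : N w = w ^ Nat.card A := by
    show ∏ α : A, (α : MulAut P) w = _
    rw [Nat.card_eq_fintype_card, ← Finset.card_univ]
    refine Finset.prod_eq_pow_card fun α _ => ?_
    have hα : (α : MulAut P) ∈ (blockFusion hM hmax).autGroup P := α.2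
    rw [hA] at hα
    obtain ⟨⟨t, htn⟩, ht, he⟩ := hα
    rw [← he]
    exact Subtype.ext (hfix t ht)
  have h1 : w ^ Nat.card A = 1 := hNw.symm.trans (hle hw)
  have h2 := orderOf_dvd_of_pow_eq_one h1
  obtain ⟨k, hk⟩ := IsPGroup.iff_orderOf.mp hmax.1.1.1 w
  rcases Nat.eq_zero_or_pos k with rfl | hk0
  · exact orderOf_eq_one_iff.mp hk
  · exact absurd ((dvd_pow_self p hk0.ne').trans (hk ▸ h2)) hcard

/-- A sum over the subsections through the orbits. -/
theorem sum_pairs_orbits (hM : IsPModular p M) (hmax : IsMaximalBrauerPair p M B P e)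
    (hab : ∀ x ∈ P, ∀ y ∈ P, x * y = y * x) {R : Finset P} (hR : OrbitReps M P e R) {X : Finset G}
    (hXrep : ∀ g : G, (∃ k : ℕ, orderOf g = p ^ k) → ∃! x, x ∈ X ∧ IsConj g x) {α : Type*} [AddCommMonoid α]
    (W : G → BrauerPairIdx G → α)
    (hW : ∀ g x a, a ∈ pairsAt M p B x → W (g * x * g⁻¹) (cjPair g a) = W x a)
    (F : P → BrauerPairIdx G) (hF : ∀ r : P, (F r).1 = Subgroup.zpowers (r : G) ∧
      Relation.ReflTransGen (NormalSubpairRel p M) (F r) ⟨P, e⟩) :
    ∑ x ∈ X, ∑ a ∈ pairsAt M p B x, W x a = ∑ r ∈ R, W (r : G) (F r) := by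
  have hP := hmax.1.1
  have hordP : ∀ y ∈ P, ∃ k : ℕ, orderOf y = p ^ k := fun y hy => exists_pow_of_mem hP.1 hy
  rw [Finset.sum_sigma']
  choose x₀ hx₀ using fun r : P => (hXrep r.1 (hordP _ r.2)).exists
  choose g hg using fun r : P => isConj_iff.mp (hx₀ r).2
  have hFp : ∀ r : P, F r ∈ pairsAt M p B (r : G) := fun r =>
    mem_pairsAt.mpr ⟨(hF r).1, (brauerPairOf_iff_of_subpair hM (hF r).2).mp hmax.1⟩
  refine (Finset.sum_bij (fun r _ => (⟨x₀ r, cjPair (g r) (F r)⟩ : Σ _ : G, BrauerPairIdx G))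
    ?_ ?_ ?_ (fun r _ => ?_)).symm
  · intro r _
    refine Finset.mem_sigma.mpr ⟨(hx₀ r).1, ?_⟩
    rw [← hg r]
    exact cjPair_mem_pairsAt hM (g r) (hFp r)
  · intro r hr r' hr' h
    obtain ⟨hx, ha⟩ := Sigma.mk.inj_iff.mp h
    have ha' : cjPair (g r) (F r) = cjPair (g r') (F r') := eq_of_heq ha
    obtain ⟨h1, h2⟩ := hF r'
    obtain ⟨h3, h4⟩ := hF r
    have hbr := isBrauerPair_left h4 hP
    have hbr' := isBrauerPair_left h2 hP
    have hcj : cjPair ((g r')⁻¹ * g r) (F r) = F r' := by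
      rw [← cjPair_cjPair _ _ hbr, ha', cjPair_cjPair _ _ hbr', inv_mul_cancel, cjPair_one hbr']
    obtain ⟨t, ht, hts⟩ := exists_cen_mul_map hM hmax hab (Q := (F r').1) (f := (F r').2) h4 h2 hcj
    refine hR.uniq _ hr _ hr' _ hts ?_
    have hc : t * (r' : G) = (r' : G) * t := (Subgroup.mem_centralizer_iff.mp ht _
      (h1 ▸ Subgroup.mem_zpowers (r' : G))).symm
    have e1 : (g r')⁻¹ * g r * (r : G) * ((g r')⁻¹ * g r)⁻¹ = r' := by
      have e2 := hg r
      have e3 := hg r'
      rw [← hx, ← e2] at e3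
      calc (g r')⁻¹ * g r * (r : G) * ((g r')⁻¹ * g r)⁻¹
          = (g r')⁻¹ * (g r * (r : G) * (g r)⁻¹) * g r' := by group
        _ = (g r')⁻¹ * (g r' * (r' : G) * (g r')⁻¹) * g r' := by rw [e3]
        _ = r' := by group
    calc t * ((g r')⁻¹ * g r) * (r : G) * (t * ((g r')⁻¹ * g r))⁻¹
        = t * ((g r')⁻¹ * g r * (r : G) * ((g r')⁻¹ * g r)⁻¹) * t⁻¹ := by group
      _ = r' := by rw [e1, hc, mul_inv_cancel_right]
  · rintro ⟨x, a⟩ hxa
    obtain ⟨hx, ha⟩ := Finset.mem_sigma.mp hxa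
    obtain ⟨haQ, haB⟩ := mem_pairsAt.mp ha
    obtain ⟨g₁, hg₁⟩ := exists_conj_le_maximal hM (a := a) (b := ⟨P, e⟩) hmax haB
    have hy : g₁ * x * g₁⁻¹ ∈ P := subgroup_le hg₁ (by
      show g₁ * x * g₁⁻¹ ∈ a.1.map (MulAut.conj g₁).toMonoidHom
      rw [haQ, map_conj_zpowers]
      exact Subgroup.mem_zpowers _)
    obtain ⟨r, hr, t, ht, htr⟩ := hR.rep ⟨_, hy⟩
    change t * (g₁ * x * g₁⁻¹) * t⁻¹ = r at htr
    obtain ⟨h1, h2⟩ := hF r
    have htg : cjPair (t * g₁) a = F r := by
      have h5 : Relation.ReflTransGen (NormalSubpairRel p M) (cjPair (t * g₁) a) ⟨P, e⟩ := by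
        rw [← cjPair_cjPair t g₁ haB.1, ← cjPair_eq_self_of_mem_stab hP ht]
        exact subpair_cjPair hM t hg₁
      refine pair_eq_of_le hM hP h5 h2 ?_
      rw [cjPair_fst, haQ, map_conj_zpowers, h1, ← htr]
      congr 1
      group
    have hxr : x₀ r = x := (hXrep r (hordP _ r.2)).unique (hx₀ r)
      ⟨hx, isConj_iff.mpr ⟨(t * g₁)⁻¹, by rw [← htr]; group⟩⟩
    refine ⟨r, hr, Sigma.ext hxr (heq_of_eq ?_)⟩
    show cjPair (g r) (F r) = a
    rw [← htg, cjPair_cjPair _ _ haB.1]
    refine cjPair_eq_self_of_mem_stab (Q := a.1) (f := a.2) haB.1 (cen_le_stab a.2 ?_)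
    rw [haQ]
    show g r * (t * g₁) ∈ Subgroup.centralizer _
    rw [Subgroup.zpowers_eq_closure, Subgroup.centralizer_closure, Subgroup.mem_centralizer_singleton_iff]
    have e2 := hg r
    rw [hxr] at e2
    generalize g r = gr at e2 ⊢
    have e3 : gr * (t * g₁) * x * (gr * (t * g₁))⁻¹ = x := by
      rw [show gr * (t * g₁) * x * (gr * (t * g₁))⁻¹ = gr * (t * (g₁ * x * g₁⁻¹) * t⁻¹) * gr⁻¹ by group, htr]
      exact e2
    exact mul_inv_eq_iff_eq_mul.mp e3
  · show _ = W (x₀ r) (cjPair (g r) (F r))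
    conv_rhs => rw [← hg r]
    exact (hW _ _ _ (hFp r)).symm

theorem sum_ctr_self {x : G} (hM : IsPModular p M) (hx : ∃ k : ℕ, orderOf x = p ^ k) :
    ∀ (H : Subgroup G) (b : Set (IrrCharacter H)), H = Subgroup.centralizer ({x} : Set G) →
      IsInducedBlock M H b B →
      ∑ χ ∈ Finset.univ.filter (fun χ : IrrCharacter G => χ ∈ B), ctr p x H b χ χ =
        ((p ^ blockDefect p b : ℕ) : ℂ) * (blockRank p b : ℂ) := by
  rintro H b rfl hind
  have := Fintype.ofFinite (Subgroup.centralizer ({x} : Set G))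
  simp only [ctr_eq_contrib, Finset.sum_filter]
  exact sum_contrib_self hM hx hind

/-- **The trace of a stable linear character.** -/
theorem sum_lin_rank (hM : IsPModular p M) (hmax : IsMaximalBrauerPair p M B P e)
    (hab : ∀ x ∈ P, ∀ y ∈ P, x * y = y * x) {R : Finset P} (hR : OrbitReps M P e R) {l : P →* ℂˣ}
    (hl : l ∈ killing (moveSub M P e)) :
    ∑ r ∈ R, (l r : ℂ) * (rankBelow M p P e (Subgroup.zpowers (r : G)) : ℂ) =
      if l = 1 then (Nat.card B : ℂ) else 0 := by
  have T := twist_of_moveSub hM hmax hab hl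
  have hP := hmax.1.1
  have hB := hmax.1.2.1
  obtain ⟨X, hX, hXrep⟩ := exists_reps (G := G) (p := p)
  choose f hf using fun r : P => (existsUnique_subpair hM (Subgroup.zpowers_le.mpr r.2) hP).exists
  have hsum := sum_pairs_orbits hM hmax hab hR hXrep
    (fun x a => lamVal M p P e l x a * (blockRank p a.2 : ℂ))
    (fun g x a ha => by
      show lamVal M p P e l _ _ * _ = _
      rw [T.lamVal_conj g ha, pairRank_cjPair])
    (fun r => ⟨Subgroup.zpowers (r : G), f r⟩) (fun r => ⟨rfl, hf r⟩)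
  rw [Finset.sum_congr rfl (g := fun r : P => (l r : ℂ) * (rankBelow M p P e (Subgroup.zpowers (r : G)) : ℂ))
    fun r _ => ?_] at hsum
  swap
  · have hm : (1 : G) * (r : G) * (1 : G)⁻¹ ∈ P := by simp
    have hb := isBrauerPair_left (a := ⟨_, f r⟩) (hf r) hP
    rw [T.lamVal_eq hb rfl hm (by rw [cjPair_one hb]; exact hf r), rankBelow_eq hM hP (hf r)]
    congr 1
    exact congrArg (fun z : P => (l z : ℂ)) (Subtype.ext (show (1 : G) * (r : G) * 1⁻¹ = r by group))
  rw [← hsum]
  calc _ = ∑ χ ∈ Finset.univ.filter (fun χ : IrrCharacter G => χ ∈ B),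
        classInner (star M p B P e l χ) (χ : G → ℂ) := ?_
    _ = _ := ?_
  · simp only [T.classInner_eq _ hX hXrep]
    rw [Finset.sum_comm]
    refine Finset.sum_congr rfl fun x hx => ?_
    have := Fintype.ofFinite {b : Set (IrrCharacter (Cen (Subgroup.zpowers x))) // IsPBlock M b}
    have := Fintype.ofFinite (Cen (Subgroup.zpowers x))
    simp only [finsum_eq_sum_of_fintype]
    rw [Finset.sum_comm]
    simp only [← Finset.mul_sum, ← Finset.sum_mul]
    rw [← Finset.sum_filter_of_ne (p := fun b : {b : Set (IrrCharacter (Cen (Subgroup.zpowers x))) // IsPBlock M b} =>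
      IsBrauerPairOf p M B (Subgroup.zpowers x) b.1) (fun b _ h => by
        by_contra hb; exact h (by rw [wt, if_neg hb, zero_mul]))]
    symm
    refine Finset.sum_bij (fun b _ => (⟨Subgroup.zpowers x, b.1⟩ : BrauerPairIdx G)) (fun b hb => ?_)
      (fun b _ b' _ h => Subtype.ext (eq_of_heq (Sigma.mk.injEq .. ▸ h).2)) ?_ ?_
    · exact mem_pairsAt.mpr ⟨rfl, (Finset.mem_filter.mp hb).2⟩
    · rintro ⟨Q, b⟩ hb
      obtain ⟨hQ, hb'⟩ := mem_pairsAt.mp hb
      obtain rfl : Q = Subgroup.zpowers x := hQ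
      exact ⟨⟨b, hb'.1.2⟩, Finset.mem_filter.mpr ⟨Finset.mem_univ _, hb'⟩, rfl⟩
    · intro b hb
      have hb' := (Finset.mem_filter.mp hb).2
      rw [sum_ctr_self hM (hX x hx) _ _ (cen_zpowers x)
          ((brauerPairOf_iff_induced hM (isPGroup_zpowers (hX x hx)) b.2 hB).mp hb'),
        wt, if_pos hb', mul_comm ((p ^ blockDefect p b.1 : ℕ) : ℂ),
        mul_inv_cancel_right₀ (Nat.cast_ne_zero.mpr (pow_ne_zero _ hp.out.ne_zero))]
  · split_ifs with h1
    · subst h1
      rw [Finset.sum_congr rfl (g := fun _ => (1 : ℂ)) fun χ hχ => by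
        rw [star_one T (Finset.mem_filter.mp hχ).2, classInner_irr_self χ.2],
        Finset.sum_const, nsmul_eq_mul, mul_one, Nat.cast_inj, ← Fintype.card_subtype, Nat.card_eq_fintype_card]
    · refine Finset.sum_eq_zero fun χ hχ => ?_
      obtain ⟨η, -, hη⟩ := T.exists_irr (Finset.mem_filter.mp hχ).2
      rw [hη, classInner_irr_ne η.2 χ.2 fun h => h1 ?_]
      ext1 v
      exact T.eq_one_of_fixed_central (Finset.mem_filter.mp hχ).2 (hη.trans h) v
        (mem_cen_self hab v.2)

/-- The ranks are equidistributed over the cosets. -/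
theorem card_mul_class_sum (hM : IsPModular p M) (hmax : IsMaximalBrauerPair p M B P e)
    (hab : ∀ x ∈ P, ∀ y ∈ P, x * y = y * x) {R : Finset P} (hR : OrbitReps M P e R) (a : P) :
    Nat.card (killing (moveSub M P e)) *
      ∑ r ∈ R.filter (fun r => a⁻¹ * r ∈ moveSub M P e), rankBelow M p P e (Subgroup.zpowers (r : G)) =
      Nat.card B := by
  set N := moveSub M P e
  set L := killing N
  let _ : CommGroup P := { (inferInstance : Group P) with
    mul_comm := fun x y => Subtype.ext (hab x x.2 y y.2) }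
  have hfin : Finite L := Nat.finite_of_card_ne_zero (by
    rw [card_killing N (by
      rw [commutator_def, Subgroup.commutator_le]
      intro x _ y _
      rw [commutatorElement_eq_one_iff_mul_comm.mpr (mul_comm x y)]
      exact N.one_mem)]
    exact Subgroup.index_ne_zero_of_finite)
  have := Fintype.ofFinite L
  have horth : ∀ y : P, ∑ l : L, ((l : P →* ℂˣ) y : ℂ) = if y ∈ N then (Nat.card L : ℂ) else 0 := by
    intro y
    split_ifs with hy
    · rw [Finset.sum_congr rfl (g := fun _ => (1 : ℂ)) fun l _ => by rw [l.2 y hy, Units.val_one],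
        Finset.sum_const, nsmul_eq_mul, mul_one, Finset.card_univ, Nat.card_eq_fintype_card]
    · obtain ⟨φ, hφ⟩ := CommGroup.exists_apply_ne_one_of_hasEnoughRootsOfUnity (P ⧸ N) ℂ
        (a := QuotientGroup.mk y) (fun h => hy ((QuotientGroup.eq_one_iff y).mp h))
      let l₀ : L := ⟨φ.comp (QuotientGroup.mk' N), fun z hz => by
        rw [MonoidHom.comp_apply, QuotientGroup.mk'_apply, (QuotientGroup.eq_one_iff z).mpr hz, map_one]⟩
      have h1 : ((l₀ : P →* ℂˣ) y : ℂ) * ∑ l : L, ((l : P →* ℂˣ) y : ℂ) = ∑ l : L, ((l : P →* ℂˣ) y : ℂ) := by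
        rw [Finset.mul_sum]
        exact Fintype.sum_equiv (Equiv.mulLeft l₀) _ _ fun l => by
          simp [MonoidHom.mul_apply]
      have h2 : (((l₀ : P →* ℂˣ) y : ℂ) - 1) * ∑ l : L, ((l : P →* ℂˣ) y : ℂ) = 0 := by
        rw [sub_mul, one_mul, h1, sub_self]
      exact (mul_eq_zero.mp h2).resolve_left (sub_ne_zero.mpr fun h => hφ (Units.val_eq_one.mp h))
  have key : (Nat.card L : ℂ) * ∑ r ∈ R.filter (fun r => a⁻¹ * r ∈ N),
      (rankBelow M p P e (Subgroup.zpowers (r : G)) : ℂ) = (Nat.card B : ℂ) := by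
    calc _ = ∑ r ∈ R, (rankBelow M p P e (Subgroup.zpowers (r : G)) : ℂ) *
          ∑ l : L, ((l : P →* ℂˣ) (a⁻¹ * r) : ℂ) := by
          rw [Finset.mul_sum, Finset.sum_filter]
          refine Finset.sum_congr rfl fun r _ => ?_
          rw [horth]
          split_ifs <;> ring
      _ = ∑ l : L, ((l : P →* ℂˣ) a⁻¹ : ℂ) *
          ∑ r ∈ R, ((l : P →* ℂˣ) r : ℂ) * (rankBelow M p P e (Subgroup.zpowers (r : G)) : ℂ) := by
          simp only [Finset.mul_sum]
          rw [Finset.sum_comm]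
          refine Finset.sum_congr rfl fun l _ => Finset.sum_congr rfl fun r _ => ?_
          rw [map_mul, Units.val_mul]; ring
      _ = _ := by
          rw [Finset.sum_eq_single (1 : L)]
          · rw [sum_lin_rank hM hmax hab hR (1 : L).2, if_pos (Subgroup.coe_one L)]
            simp
          · intro l _ hne
            rw [sum_lin_rank hM hmax hab hR l.2, if_neg (show ¬ (l : P →* ℂˣ) = 1 from fun h => hne (Subtype.ext h)), mul_zero]
          · exact fun h => absurd (Finset.mem_univ _) h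
  exact_mod_cast key

end CfsgLib.Star
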