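import Cfsg.Agent.Lib.Star.Corner
import Cfsg.Agent.Lib.NilBlock.Vanish
import Cfsg.Agent.Lib.Blocks.SimpleTrace

/-!
# Primitive idempotents of the fixed local group algebra

* `PrimLA Q i`: a primitive idempotent among those of `O G` commuting with `Q`;
* `exists_decomp`: every idempotent commuting with `Q` is a sum of them;
* `PrimLA.red`: the reduction is primitive in `(k G)^Q`;
* `exists_lift_equiv`: equivalences lift.
-/

set_option autoImplicit false

noncomputable section

namespace CfsgLib.Star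

open Cfsg CfsgLib.Blocks CfsgLib.BrauerPairs CfsgLib.NilBlock

attribute [local instance] CfsgLib.Blocks.resField

universe u

variable {M : Ideal AlgInt} [M.IsMaximal] {G : Type u} [Group G] [Fintype G]

variable (M) in
/-- The fixed subalgebra. -/
def fixSub (Q : Subgroup G) : Subalgebra (Res M) (KG M G) where
  carrier := {x | IsFixed Q x}
  mul_mem' := fun ha hb => ha.mul hb
  one_mem' := fun v _ => map_one _
  add_mem' := fun ha hb v hv => by rw [map_add, ha v hv, hb v hv]
  zero_mem' := fun v _ => map_zero _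
  algebraMap_mem' := fun c v _ => ext_coeff fun y => by
    classical
    rw [coeff_cjA]
    by_cases hy : y = 1
    · subst hy; simp
    · rw [show algebraMap (Res M) (KG M G) c = MonoidAlgebra.single 1 c by simp]
      have h : v⁻¹ * y * v ≠ 1 := fun h => hy (by
        calc y = v * (v⁻¹ * y * v) * v⁻¹ := by group
          _ = 1 := by rw [h]; group)
      simp [Ne.symm h, Ne.symm hy]

@[simp] theorem mem_fixSub {Q : Subgroup G} {x : KG M G} : x ∈ fixSub M Q ↔ IsFixed Q x := Iff.rfl

/-- Commuting with the elements of `Q`. -/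
def Inv (Q : Subgroup G) (a : LA M G) : Prop := ∀ v ∈ Q, Commute a (MonoidAlgebra.single v 1)

theorem Inv.mul {Q : Subgroup G} {a b : LA M G} (ha : Inv Q a) (hb : Inv Q b) : Inv Q (a * b) :=
  fun v hv => (ha v hv).mul_left (hb v hv)

theorem Inv.sub {Q : Subgroup G} {a b : LA M G} (ha : Inv Q a) (hb : Inv Q b) : Inv Q (a - b) :=
  fun v hv => (ha v hv).sub_left (hb v hv)

theorem Inv.mono {Q R : Subgroup G} {a : LA M G} (ha : Inv Q a) (h : R ≤ Q) : Inv R a :=
  fun v hv => ha v (h hv)

theorem inv_one {Q : Subgroup G} : Inv Q (1 : LA M G) := fun _ _ => Commute.one_left _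

theorem Inv.fixed {Q : Subgroup G} {a : LA M G} (ha : Inv Q a) : IsFixed Q (redLA M G a) :=
  isFixed_iff.mpr fun v hv g => by
    rw [coeff_redLA, coeff_redLA, (commute_single_iff a v).mp (ha v hv) g]

theorem inv_liftLA {Q : Subgroup G} {x : KG M G} (hx : IsFixed Q x) : Inv Q (liftLA M x) :=
  fun v hv => commute_liftLA fun g => isFixed_iff.mp hx v hv g

/-- A primitive idempotent commuting with `Q`. -/
structure PrimLA (Q : Subgroup G) (i : LA M G) : Prop where
  idem : i * i = i
  ne : i ≠ 0
  inv : Inv Q i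
  prim : ∀ e : LA M G, e * e = e → Inv Q e → i * e = e → e * i = e → e = 0 ∨ e = i

theorem PrimLA.red_ne {Q : Subgroup G} {i : LA M G} (hi : PrimLA Q i) : redLA M G i ≠ 0 :=
  fun h => hi.ne (idem_eq_zero_of_red hi.idem h)

/-- Decomposition into primitives. -/
theorem exists_decomp (Q : Subgroup G) {i : LA M G} (hi : i * i = i) (hiQ : Inv Q i) :
    ∃ (n : ℕ) (f : Fin n → LA M G), (∀ l, PrimLA Q (f l)) ∧ (∑ l, f l = i) ∧
      (∀ l l', l ≠ l' → f l * f l' = 0) ∧ ∀ l, i * f l = f l ∧ f l * i = f l := by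
  classical
  let μ : LA M G → ℕ := fun a =>
    Module.finrank (Res M) ↥(LinearMap.range (LinearMap.mulLeft (Res M) (redLA M G a)))
  induction hn : μ i using Nat.strong_induction_on generalizing i with
  | _ n ih =>
    by_cases hsplit : ∃ e : LA M G, e * e = e ∧ Inv Q e ∧ i * e = e ∧ e * i = e ∧ e ≠ 0 ∧ e ≠ i
    · obtain ⟨e, hee, heQ, hie, hei, he0, hne⟩ := hsplit
      have hlt : ∀ e : LA M G, e * e = e → i * e = e → e * i = e → e ≠ i → μ e < μ i := by
        intro e hee hie hei hne
        refine Submodule.finrank_lt_finrank_of_lt (lt_of_le_of_ne ?_ fun h => hne ?_)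
        · rintro _ ⟨x, rfl⟩
          exact ⟨redLA M G e * x, by simp [← mul_assoc, ← map_mul, hie]⟩
        · have hmem : redLA M G i ∈ LinearMap.range (LinearMap.mulLeft (Res M) (redLA M G e)) := by
            rw [h]; exact ⟨1, by simp⟩
          obtain ⟨x, hx⟩ := hmem
          simp only [LinearMap.mulLeft_apply] at hx
          have h1 : redLA M G e * redLA M G i = redLA M G i := by
            rw [← hx, ← mul_assoc, ← map_mul, hee]
          have h2 : redLA M G (i - e) = 0 := by rw [map_sub, ← h1, ← map_mul, hei, sub_self]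
          exact (sub_eq_zero.mp (idem_eq_zero_of_red
            (by rw [sub_mul, mul_sub, mul_sub, hi, hie, hei, hee]; abel) h2)).symm
      set e' := i - e with he'
      have he'e' : e' * e' = e' := by rw [he', sub_mul, mul_sub, mul_sub, hi, hie, hei, hee]; abel
      have hie' : i * e' = e' := by rw [he', mul_sub, hi, hie]
      have he'i : e' * i = e' := by rw [he', sub_mul, hi, hei]
      have h1 : μ e < n := hn ▸ hlt e hee hie hei hne
      have h2 : μ e' < n := hn ▸ hlt e' he'e' hie' he'i (fun h => he0 (by rwa [he', sub_eq_self] at h))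
      obtain ⟨n₁, f₁, hp₁, hs₁, ho₁, hc₁⟩ := ih _ h1 hee heQ rfl
      obtain ⟨n₂, f₂, hp₂, hs₂, ho₂, hc₂⟩ := ih _ h2 he'e' (hiQ.sub heQ) rfl
      have hee' : e * e' = 0 := by rw [he', mul_sub, hei, hee, sub_self]
      have he'e : e' * e = 0 := by rw [he', sub_mul, hie, hee, sub_self]
      refine ⟨n₁ + n₂, Fin.append f₁ f₂, fun l => ?_, ?_, fun l l' h => ?_, fun l => ?_⟩
      · refine Fin.addCases (fun a => ?_) (fun a => ?_) l
        · rw [Fin.append_left]; exact hp₁ a
        · rw [Fin.append_right]; exact hp₂ a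
      · rw [Fin.sum_univ_add]
        simp only [Fin.append_left, Fin.append_right, hs₁, hs₂, he', add_sub_cancel]
      · revert h
        refine Fin.addCases (fun a => ?_) (fun a => ?_) l <;>
          refine Fin.addCases (fun b => ?_) (fun b => ?_) l'
        · intro h
          rw [Fin.append_left, Fin.append_left]
          exact ho₁ a b fun hab => h (by rw [hab])
        · intro _
          rw [Fin.append_left, Fin.append_right, ← (hc₁ a).2, ← (hc₂ b).1, mul_assoc,
            ← mul_assoc e e' (f₂ b), hee', zero_mul, mul_zero]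
        · intro _
          rw [Fin.append_left, Fin.append_right, ← (hc₂ a).2, ← (hc₁ b).1, mul_assoc,
            ← mul_assoc e' e (f₁ b), he'e, zero_mul, mul_zero]
        · intro h
          rw [Fin.append_right, Fin.append_right]
          exact ho₂ a b fun hab => h (by rw [hab])
      · refine Fin.addCases (fun a => ?_) (fun a => ?_) l
        · rw [Fin.append_left]
          exact ⟨by rw [← (hc₁ a).1, ← mul_assoc, hie, (hc₁ a).1],
            by rw [← (hc₁ a).2, mul_assoc, hei, (hc₁ a).2]⟩
        · rw [Fin.append_right]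
          exact ⟨by rw [← (hc₂ a).1, ← mul_assoc, hie', (hc₂ a).1],
            by rw [← (hc₂ a).2, mul_assoc, he'i, (hc₂ a).2]⟩
    · by_cases h0 : i = 0
      · exact ⟨0, Fin.elim0, fun l => l.elim0, by simp [h0], fun l => l.elim0, fun l => l.elim0⟩
      · push Not at hsplit
        refine ⟨1, fun _ => i, fun _ => ⟨hi, h0, hiQ, fun e hee heQ hie hei => ?_⟩, by simp,
          fun l l' h => absurd (Subsingleton.elim l l') h, fun _ => ⟨hi, hi⟩⟩
        by_cases he : e = 0
        · exact Or.inl he
        · exact Or.inr (hsplit e hee heQ hie hei he)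

variable {p : ℕ} (hM : IsPModular p M)
include hM

/-- The reduction of a primitive idempotent is primitive. -/
theorem PrimLA.red {Q : Subgroup G} {i : LA M G} (hi : PrimLA Q i) :
    Prim (fixSub M Q) (redLA M G i) := by
  refine ⟨by rw [← map_mul, hi.idem], hi.red_ne, hi.inv.fixed, fun x hx hxx => ?_⟩
  obtain ⟨a, ha⟩ : ∃ a, a = i * liftLA M x * i := ⟨_, rfl⟩
  have hred : redLA M G a = x := by rw [ha, map_mul, map_mul, redLA_liftLA, hx.left, hx.right]
  have haQ : Inv Q a := by
    rw [ha]; exact (hi.inv.mul (inv_liftLA hx.mem)).mul hi.inv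
  have hai : Commute a i := by
    rw [ha]
    show i * liftLA M x * i * i = i * (i * liftLA M x * i)
    rw [mul_assoc _ i i, hi.idem, ← mul_assoc i (i * liftLA M x) i, ← mul_assoc i i, hi.idem]
  obtain ⟨e, b, hab, -, hee, -, -, hcom, m, hm⟩ := exists_spectral hM a
  have hei : Commute e i := (hcom i hai).1
  have he : x = redLA M G e := by
    refine eq_of_spectral (y := redLA M G b) (m := m) ?_ ?_ hxx
    · rw [← hred, ← map_mul, hab]
    · rw [← hred, ← map_pow, ← map_one (redLA M G), ← map_sub, ← map_mul, hm]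
  have h2 : (e * i) * (e * i) = e * i := by
    rw [mul_assoc, ← mul_assoc i e i, ← hei.eq, mul_assoc e i i, hi.idem, ← mul_assoc, hee]
  rcases hi.prim (e * i) h2 (Inv.mul (fun v hv => (hcom _ (haQ v hv)).1) hi.inv)
    (by rw [← mul_assoc, ← hei.eq, mul_assoc, hi.idem]) (by rw [mul_assoc, hi.idem]) with h | h
  · left
    rw [← hx.right, he, ← map_mul, h, map_zero]
  · right
    rw [← h, map_mul, ← he, hx.right]

omit hM in
theorem InCor.of_mul {Q : Subgroup G} {y a : KG M G} (hy : y * y = y) (hyQ : IsFixed Q y) (ha : IsFixed Q a) :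
    InCor (fixSub M Q) y (y * a * y) :=
  ⟨(hyQ.mul ha).mul hyQ, by simp only [← mul_assoc, hy], by simp only [mul_assoc, hy]⟩

variable [IsAlgClosed (Res M)]

/-- Equivalences of primitive idempotents lift. -/
theorem exists_lift_equiv {Q : Subgroup G} {j j' : LA M G} (hj : PrimLA Q j) (hj' : PrimLA Q j')
    {x w : KG M G} (hxQ : IsFixed Q x) (hwQ : IsFixed Q w) (hx : redLA M G j * x = x)
    (hx' : x * redLA M G j' = x) (hw : redLA M G j' * w = w) (hw' : w * redLA M G j = w)
    (hs : scal (fixSub M Q) (redLA M G j) (x * w) ≠ 0) :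
    ∃ X W : LA M G, Inv Q X ∧ Inv Q W ∧ X * W = j ∧ W * X = j' := by
  obtain ⟨X, hX⟩ : ∃ X, X = j * liftLA M x * j' := ⟨_, rfl⟩
  obtain ⟨W, hW⟩ : ∃ W, W = j' * liftLA M w * j := ⟨_, rfl⟩
  have hXQ : Inv Q X := by rw [hX]; exact (hj.inv.mul (inv_liftLA hxQ)).mul hj'.inv
  have hWQ : Inv Q W := by rw [hW]; exact (hj'.inv.mul (inv_liftLA hwQ)).mul hj.inv
  have hjX : j * X = X := by rw [hX]; simp only [← mul_assoc, hj.idem]
  have hXj : X * j' = X := by rw [hX]; simp only [mul_assoc, hj'.idem]
  have hjW : j' * W = W := by rw [hW]; simp only [← mul_assoc, hj'.idem]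
  have hWj : W * j = W := by rw [hW]; simp only [mul_assoc, hj.idem]
  have hred : redLA M G (X * W) = x * w := by
    rw [map_mul, hX, hW]; simp only [map_mul, redLA_liftLA, hx, hx', hw, hw']
  have haQ : Inv Q (X * W) := hXQ.mul hWQ
  have haj : Commute (X * W) j := by
    show X * W * j = j * (X * W)
    rw [mul_assoc, hWj, ← mul_assoc, hjX]
  obtain ⟨e, b, hab, -, hee, -, -, hcom, m, hm⟩ := exists_spectral hM (X * W)
  have hej : Commute e j := (hcom j haj).1
  have hbj : Commute b j := (hcom j haj).2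
  have h2 : (e * j) * (e * j) = e * j := by
    rw [mul_assoc, ← mul_assoc j e j, ← hej.eq, mul_assoc e j j, hj.idem, ← mul_assoc, hee]
  rcases hj.prim (e * j) h2 (Inv.mul (fun v hv => (hcom _ (haQ v hv)).1) hj.inv)
    (by rw [← mul_assoc, ← hej.eq, mul_assoc, hj.idem]) (by rw [mul_assoc, hj.idem]) with h | h
  · refine absurd ((hj.red hM).scal_eq ⟨hxQ.mul hwQ, by rw [← mul_assoc, hx], by rw [mul_assoc, hw']⟩ ?_) hs
    rw [zero_smul, sub_zero]
    refine ⟨m + 1, ?_⟩
    have hpj : (x * w) ^ (m + 1) * redLA M G j = (x * w) ^ (m + 1) := by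
      rw [pow_succ, mul_assoc, mul_assoc x w, hw']
    rw [← hpj, ← hred, ← map_pow, ← map_mul,
      show (X * W) ^ (m + 1) * j = (X * W) * ((X * W) ^ m * (1 - e)) * j + (X * W) ^ (m + 1) * (e * j) by
        rw [pow_succ' (X * W) m]; simp only [mul_sub, sub_mul, mul_one, mul_assoc]; abel,
      h, mul_zero, add_zero, map_mul, map_mul, hm, mul_zero, zero_mul]
  · have hXW : X * (W * (b * j)) = j := by rw [← mul_assoc, ← mul_assoc, hab, h]
    refine ⟨X, W * (b * j), hXQ, hWQ.mul (Inv.mul (fun v hv => (hcom _ (haQ v hv)).2) hj.inv), hXW, ?_⟩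
    set W' := W * (b * j) with hW'
    have hW'j : W' * j = W' := by rw [hW']; simp only [mul_assoc, hj.idem]
    have hjW' : j' * W' = W' := by rw [hW', ← mul_assoc, hjW]
    have hidem : W' * X * (W' * X) = W' * X := by
      rw [mul_assoc, ← mul_assoc X W' X, hXW, ← mul_assoc, hW'j]
    rcases hj'.prim (W' * X) hidem
      ((hWQ.mul (Inv.mul (fun v hv => (hcom _ (haQ v hv)).2) hj.inv)).mul hXQ)
      (by rw [← mul_assoc, hjW']) (by rw [mul_assoc, hXj]) with h' | h'
    · exfalso
      apply hj.ne
      calc j = X * W' * (X * W') := by rw [hXW, hj.idem]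
        _ = X * (W' * X) * W' := by simp only [mul_assoc]
        _ = 0 := by rw [h', mul_zero, zero_mul]
    · exact h'

end CfsgLib.Star
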